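import Mathlib
import Cfsg.Agent.H348.Nonsolvable
import Cfsg.Agent.H348.SolvableFPF
import Cfsg.Agent.H348.FPFZGroup
import Cfsg.Agent.H348.ZGroup
import Cfsg.Agent.H379.P4.Defs
import Cfsg.Agent.H374.R.LOutB_m3
import Cfsg.Agent.H373.Recog
import Cfsg.Agent.ClassicalGeometry.PSL2Basic
import Cfsg.Agent.Lib.FieldAutCard
import Cfsg.Agent.LieClassical.SympCenter
import Cfsg.Prelude.Def_Classical
import Cfsg.Agent.ClassicalGeometry.SympGamma
import Cfsg.Agent.ClassicalGeometry.SympAutTwo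
import Cfsg.Agent.ClassicalGeometry.SympAutExists
import Cfsg.Agent.Lib.FinFast
import Cfsg.Agent.FastGrp
import Cfsg.Agent.Prune
set_option linter.all false
prune_inst 0x7ffdacfbbff82ddfffff7e7ffedcddfff9b9bffff4dff9fbffe071ef2bdf6b0ac9e5238d6bea10fe0ee2421600e87b03f9ffdeffea6bdc7ffffd5ff45ffbff8fedf7bd0851968c340fbc2ff783f0778e7f3fffffffffffffffffffffffffffbeffbfffffffff
open scoped Cfsg.Agent.FastGrp

-- part: H374/P4/Comp
section
/-!
# Fixed-point-free groups with the element orders of `PSp₄(q)` outside the isolated torus do not exist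
-/

set_option autoImplicit false

namespace Cfsg.Agent.H374.P4

open Subgroup Cfsg.Agent.H348 Cfsg.Agent.H379.P4 Cfsg.Agent.H374.Quad

/-- In a normal `Z`-subgroup of a fixed-point-free group there is at most one subgroup of each prime order. -/
theorem unique_of_zgroup {Z : Type*} [Group Z] [Finite Z] (h : HasFPF Z) [hZ : IsZGroup Z] {p : ℕ}
    (hp : p.Prime) {w w' : Z} (ho : orderOf w = p) (ho' : orderOf w' = p) : w' ∈ zpowers w := by
  obtain ⟨x, y, r, hy, hcl, hcard, hcop, hrel, hr, hr1, hrn⟩ := zgroup_structure (G := Z)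
  have hn : 0 < orderOf x := orderOf_pos x
  by_cases hpy : p ∣ orderOf y
  · have hpx : ¬ p ∣ orderOf x := fun hpx => hp.one_lt.ne' (Nat.dvd_one.1 (hcop ▸ Nat.dvd_gcd hpx hpy))
    have hnorm : (zpowers y).Normal := by rw [hy]; infer_instance
    have hidx : (zpowers y).index = orderOf x := by
      have h1 := (zpowers y).card_mul_index
      rw [Nat.card_zpowers, ← hcard, mul_comm (orderOf x)] at h1
      exact Nat.eq_of_mul_eq_mul_left (orderOf_pos y) h1
    have key : ∀ z : Z, orderOf z = p → z ∈ zpowers y := by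
      intro z hz
      rw [← QuotientGroup.eq_one_iff, ← orderOf_eq_one_iff]
      have h1 : orderOf (z : Z ⧸ zpowers y) ∣ p := hz ▸ orderOf_map_dvd (QuotientGroup.mk' (zpowers y)) z
      rcases (Nat.dvd_prime hp).1 h1 with h2 | h2
      · exact h2
      · exfalso
        apply hpx
        rw [← h2, ← hidx]
        exact _root_.orderOf_dvd_natCard _
    obtain ⟨i, hi⟩ := mem_zpowers_iff.1 (key w ho)
    obtain ⟨j, hj⟩ := mem_zpowers_iff.1 (key w' ho')
    have hc : w * w' = w' * w := by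
      rw [← hi, ← hj]
      exact ((Commute.refl y).zpow_zpow i j).eq
    rw [h.zpowers_eq hc (ho.trans ho'.symm)]
    exact mem_zpowers w'
  · have hpx : p ∣ orderOf x := by
      have h1 : p ∣ Nat.card Z := ho ▸ _root_.orderOf_dvd_natCard w
      rw [← hcard] at h1
      exact (hp.dvd_mul.1 h1).resolve_right hpy
    set P := ∏ q ∈ (orderOf x).primeFactors, q with hP
    have hpP : p ∣ P := Finset.dvd_prod_of_mem _ (Nat.mem_primeFactors.2 ⟨hp, hpx, hn.ne'⟩)
    have hPn : P ∣ orderOf x := Nat.prod_primeFactors_dvd _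
    obtain ⟨a, ha⟩ := hpP
    obtain ⟨b, hb⟩ := hPn
    have h1 := h.pow_condition hcop hrel hrn
    rw [← hP] at h1
    have hPpos : 0 < P := Nat.pos_of_ne_zero (by rintro h0; rw [h0, zero_mul] at hb; omega)
    have h2 : orderOf x / P = b := by rw [hb, Nat.mul_div_cancel_left _ hPpos]
    have h3 : orderOf x / p = b * a := by
      rw [hb, ha, mul_assoc, Nat.mul_div_cancel_left _ hp.pos, mul_comm]
    rw [h2] at h1
    have h4 : r ^ (orderOf x / p) ≡ 1 [MOD orderOf y] := by
      rw [h3, pow_mul]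
      have : (r ^ b) ^ a ≡ 1 ^ a [MOD orderOf y] := Nat.ModEq.pow a h1
      rwa [one_pow] at this
    set z := x ^ (orderOf x / p) with hz
    have hzo : orderOf z = p := by
      have h5 : orderOf x ≠ 0 := hn.ne'
      rw [hz, orderOf_pow_of_dvd (Nat.div_pos (Nat.le_of_dvd hn hpx) hp.pos).ne' (Nat.div_dvd_of_dvd hpx),
        Nat.div_div_self hpx h5]
    have hzy : z * y = y * z := by
      have h5 := conj_pow_of_rel hrel (orderOf x / p)
      have h6 : y ^ (r ^ (orderOf x / p)) = y := by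
        have := (pow_eq_pow_iff_modEq (x := y)).2 h4
        rwa [pow_one] at this
      rw [h6] at h5
      calc z * y = z * (z⁻¹ * y * z) := by rw [← hz] at h5; rw [h5]
        _ = y * z := by group
    have hzx : z * x = x * z := ((Commute.refl x).pow_left _).eq
    have hcen : ∀ g : Z, z * g = g * z := by
      intro g
      have h5 : (⊤ : Subgroup Z) ≤ centralizer {z} := by
        rw [← hcl, closure_le]
        rintro g (rfl | rfl)
        · exact mem_centralizer_singleton_iff.2 hzx.symm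
        · exact mem_centralizer_singleton_iff.2 hzy.symm
      exact (mem_centralizer_singleton_iff.1 (h5 (mem_top g))).symm
    rw [← h.zpowers_eq (hcen w) (hzo.trans ho.symm), h.zpowers_eq (hcen w') (hzo.trans ho'.symm)]
    exact mem_zpowers w'

theorem no_fifteen (x : Matrix.SpecialLinearGroup (Fin 2) (ZMod 5)) (h : orderOf x = 15) : False := by
  have key : ∀ a b c d : ZMod 5, a * d - b * c = 1 →
      (!![a, b; c, d] : Matrix (Fin 2) (Fin 2) (ZMod 5)) ^ 15 = 1 →
      (!![a, b; c, d] : Matrix (Fin 2) (Fin 2) (ZMod 5)) ^ 3 = 1 ∨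
      (!![a, b; c, d] : Matrix (Fin 2) (Fin 2) (ZMod 5)) ^ 5 = 1 := by
    (refine of_decide_eq_true ?_; (try (rewrite [Cfsg.Agent.LsF.mpowF_pat, Cfsg.Agent.LsF.mof_pat, Cfsg.Agent.LsF.zadd_pat, Cfsg.Agent.LsF.zmul_pat, Cfsg.Agent.LsF.zsub_pat, Cfsg.Agent.LsF.vecCons_eq, Cfsg.Agent.LsF.zdecEq_eq, Cfsg.Agent.LsF.finFintype_eq, Cfsg.Agent.LsF.zFintype_eq, Cfsg.Agent.LsF.dForall_eq, Cfsg.Agent.LsF.dMat_eq, Cfsg.Agent.LsF.instMOne_eq, Cfsg.Agent.LsF.dOr_eq, Cfsg.Agent.LsF.dFinEq_eq, Cfsg.Agent.LsF.dAllP_eq, Cfsg.Agent.LsF.decide_eq])); decide +kernel)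
  have h1 : (x : Matrix (Fin 2) (Fin 2) (ZMod 5)) = !![x.1 0 0, x.1 0 1; x.1 1 0, x.1 1 1] :=
    Matrix.eta_fin_two _
  have h2 : x.1 0 0 * x.1 1 1 - x.1 0 1 * x.1 1 0 = 1 := by
    have := x.2
    rwa [Matrix.det_fin_two] at this
  have h3 : ∀ n : ℕ, x ^ n = 1 ↔ (x.1) ^ n = 1 := by
    intro n
    rw [← Matrix.SpecialLinearGroup.coe_pow, ← Matrix.SpecialLinearGroup.coe_one]
    exact ⟨fun h => congrArg Subtype.val h, fun h => Subtype.ext h⟩
  have h4 := key _ _ _ _ h2 (by
    rw [← h1, ← h3]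
    rw [← h, pow_orderOf_eq_one])
  rw [← h1, ← h3, ← h3] at h4
  rcases h4 with h4 | h4
  · have := orderOf_dvd_of_pow_eq_one h4
    rw [h] at this
    omega
  · have := orderOf_dvd_of_pow_eq_one h4
    rw [h] at this
    omega

/-- **There is at most one subgroup of order `p`**, `p ≥ 5`. -/
theorem unique_p {H : Type*} [Group H] [Finite H] (h : HasFPF H) {p : ℕ} (hp : p.Prime) (h5 : 5 ≤ p)
    (h15 : p = 5 → ∃ x : H, orderOf x = 15) {w w' : H} (hw : orderOf w = p) (hw' : orderOf w' = p) :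
    w' ∈ zpowers w := by
  by_cases hs : Group.IsSolvable H
  · obtain ⟨G₀, hn, ⟨f, hf⟩, hZ⟩ := h.solvable
    have key : ∀ z : H, orderOf z = p → z ∈ G₀ := by
      intro z hz
      rw [← hf, MonoidHom.mem_ker, ← orderOf_eq_one_iff]
      have h1 : orderOf (f z) ∣ p := hz ▸ orderOf_map_dvd f z
      rcases (Nat.dvd_prime hp).1 h1 with h2 | h2
      · exact h2
      · exfalso
        have h3 : p ∣ Nat.card (Equiv.Perm (Fin 4)) := h2 ▸ _root_.orderOf_dvd_natCard (f z)
        rw [Nat.card_perm, Nat.card_eq_fintype_card, Fintype.card_fin, show Nat.factorial 4 = 2 ^ 3 * 3 by decide] at h3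
        rcases hp.dvd_mul.1 h3 with h4 | h4
        · have := Nat.le_of_dvd (by norm_num) (hp.dvd_of_dvd_pow h4)
          omega
        · have := Nat.le_of_dvd (by norm_num) h4
          omega
    have h1 := unique_of_zgroup (h.subgroup G₀) (Z := G₀) hp (w := ⟨w, key w hw⟩) (w' := ⟨w', key w' hw'⟩)
      (by rw [orderOf_mk, hw]) (by rw [orderOf_mk, hw'])
    obtain ⟨k, hk⟩ := mem_zpowers_iff.1 h1
    exact mem_zpowers_iff.2 ⟨k, congrArg Subtype.val hk⟩
  · obtain ⟨S, M, hSc, hMn, hSM, -, hidx, hcomm, ⟨e⟩, hcyc, hcop⟩ := h.nonsolvable hs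
    have hSn : S.Normal := inferInstance
    have hZ : IsZGroup M := ⟨fun q hq P => by
      have := Fact.mk hq
      exact hcyc q P⟩
    have hodd : ∀ g : H, Odd (orderOf g) → ∃ s ∈ S, ∃ m ∈ M, s * m = g := by
      intro g hg
      have h1 : g ∈ S ⊔ M := by
        rcases hidx with h2 | h2
        · rw [Subgroup.index_eq_one.1 h2]; trivial
        · obtain ⟨k, hk⟩ := hg
          have h3 : g ^ 2 ∈ S ⊔ M := Subgroup.sq_mem_of_index_two h2 g
          have h4 : g = (g ^ 2) ^ (k + 1) := by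
            rw [← pow_mul, show 2 * (k + 1) = orderOf g + 1 by omega, pow_succ, pow_orderOf_eq_one, one_mul]
          rw [h4]
          exact pow_mem h3 _
      rw [← SetLike.mem_coe, Subgroup.mul_normal S M] at h1
      obtain ⟨s, hs, m, hm, hsm⟩ := h1
      exact ⟨s, hs, m, hm, hsm⟩
    have hpow : ∀ (g s m : H) (n : ℕ), s ∈ S → m ∈ M → s * m = g → g ^ n = 1 → s ^ n = 1 ∧ m ^ n = 1 := by
      intro g s m n hs hm hg hn
      have h1 : s ^ n * m ^ n = 1 := by
        rw [← (show Commute s m from hcomm s hs m hm).mul_pow, hg, hn]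
      have h2 : s ^ n ∈ S ⊓ M := by
        refine ⟨S.pow_mem hs n, ?_⟩
        rw [eq_inv_of_mul_eq_one_left h1]
        exact M.inv_mem (M.pow_mem hm n)
      rw [hSM, Subgroup.mem_bot] at h2
      exact ⟨h2, by rwa [h2, one_mul] at h1⟩
    by_cases hp5 : p = 5
    · exfalso
      obtain ⟨x, hx⟩ := h15 hp5
      obtain ⟨s, hs', m, hm, hsm⟩ := hodd x (by rw [hx]; decide)
      obtain ⟨h1, h2⟩ := hpow x s m 15 hs' hm hsm (by rw [← hx, pow_orderOf_eq_one])
      have h3 : m = 1 := by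
        have h4 : orderOf (⟨m, hm⟩ : M) ∣ 15 := orderOf_dvd_of_pow_eq_one (Subtype.ext h2)
        have h5 : orderOf (⟨m, hm⟩ : M) ∣ Nat.card M := _root_.orderOf_dvd_natCard _
        have h6 : orderOf (⟨m, hm⟩ : M) ∣ Nat.gcd (Nat.card M) 30 := Nat.dvd_gcd h5 (h4.trans (by norm_num))
        rw [hcop, Nat.dvd_one, orderOf_eq_one_iff] at h6
        exact congrArg Subtype.val h6
      have h4 : orderOf s = 15 := by rw [← hx, ← hsm, h3, mul_one]
      apply no_fifteen (e ⟨s, hs'⟩)
      rw [MulEquiv.orderOf_eq, orderOf_mk, h4]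
    · have hpodd : Odd p := hp.odd_of_ne_two (by omega)
      have key : ∀ z : H, orderOf z = p → z ∈ M := by
        intro z hz
        obtain ⟨s, hs', m, hm, hsm⟩ := hodd z (by rwa [hz])
        obtain ⟨h1, h2⟩ := hpow z s m p hs' hm hsm (by rw [← hz, pow_orderOf_eq_one])
        have h3 : s = 1 := by
          have h4 : orderOf (⟨s, hs'⟩ : S) ∣ p := orderOf_dvd_of_pow_eq_one (Subtype.ext h1)
          have h5 : orderOf (⟨s, hs'⟩ : S) ∣ Nat.card S := _root_.orderOf_dvd_natCard _
          rw [Nat.card_congr e.toEquiv, Cfsg.Agent.PermutationGroups.AutSL25.natCard] at h5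
          rcases (Nat.dvd_prime hp).1 h4 with h6 | h6
          · rw [orderOf_eq_one_iff] at h6
            exact congrArg Subtype.val h6
          · exfalso
            rw [h6] at h5
            have h7 : p ∣ 2 ^ 3 * 3 * 5 := by norm_num; exact h5
            rcases hp.dvd_mul.1 h7 with h8 | h8
            · rcases hp.dvd_mul.1 h8 with h9 | h9
              · have := Nat.le_of_dvd (by norm_num) (hp.dvd_of_dvd_pow h9)
                omega
              · have := Nat.le_of_dvd (by norm_num) h9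
                omega
            · have := Nat.le_of_dvd (by norm_num) h8
              omega
        rw [h3, one_mul] at hsm
        rwa [← hsm]
      have h1 := unique_of_zgroup (h.subgroup M) (Z := M) hp (w := ⟨w, key w hw⟩) (w' := ⟨w', key w' hw'⟩)
        (by rw [orderOf_mk, hw]) (by rw [orderOf_mk, hw'])
      obtain ⟨k, hk⟩ := mem_zpowers_iff.1 h1
      exact mem_zpowers_iff.2 ⟨k, congrArg Subtype.val hk⟩

end Cfsg.Agent.H374.P4
end

-- part: H374/P4/CompB
section
/-!
# Fixed-point-free groups: the contradiction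
-/

set_option autoImplicit false

namespace Cfsg.Agent.H374.P4

open Subgroup Cfsg.Agent.H348 Cfsg.Agent.H379.P4 Cfsg.Agent.H374.Quad

section arith

variable {p q : ℕ}

theorem E_eq (hP : Par p q) : E q * Nat.gcd 2 (q - 1) = (q - 1) * (q + 1) := by
  rw [hP.E_mul, sq_sub_one q (by have := hP.big; omega)]

theorem E_big (hP : Par p q) : 3 * (q + 1) ≤ E q := by
  have h1 := E_eq hP
  have h2 := hP.big
  have h3 := hP.ne
  rcases hP.parity with ⟨-, h4, h5⟩ | ⟨-, h4, h5⟩
  · rw [h5] at h1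
    have h6 : 6 * (q + 1) ≤ (q - 1) * (q + 1) := Nat.mul_le_mul_right _ (by omega)
    omega
  · rw [h5] at h1
    have h6 : 3 * (q + 1) ≤ (q - 1) * (q + 1) := Nat.mul_le_mul_right _ (by omega)
    omega

theorem p_not_dvd_E (hP : Par p q) : ¬ p ∣ E q := by
  intro h
  have h1 : p ∣ q ^ 2 - 1 := hP.E_mul ▸ h.mul_right _
  have h2 : p ∣ q ^ 2 := hP.p_dvd.trans (dvd_pow_self q two_ne_zero)
  have h3 : 1 ≤ q ^ 2 := Nat.one_le_pow _ _ (by have := hP.big; omega)
  have h4 : p ∣ q ^ 2 - (q ^ 2 - 1) := Nat.dvd_sub h2 h1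
  rw [Nat.sub_sub_self h3] at h4
  exact hP.prime.one_lt.ne' (Nat.dvd_one.1 h4)

theorem p_not_dvd_sub (hP : Par p q) : ¬ p ∣ q - 1 := fun h => p_not_dvd_E hP (h.trans hP.sub_dvd.1)

theorem p_not_dvd_add (hP : Par p q) : ¬ p ∣ q + 1 := fun h => p_not_dvd_E hP (h.trans hP.sub_dvd.2)

/-- `p * n` in the spectrum -/
theorem om_p_mul (hP : Par p q) {n : ℕ} (hn : ¬ p ∣ n) (h : Om p q (p * n)) : n ∣ q - 1 ∨ n ∣ q + 1 := by
  have hp := hP.prime
  rcases h with h | h | h | h | ⟨h3, h⟩ | ⟨h3, h⟩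
  · exact Or.inl (Nat.dvd_of_mul_dvd_mul_left hp.pos h)
  · exact Or.inr (Nat.dvd_of_mul_dvd_mul_left hp.pos h)
  · exact absurd ((Dvd.intro _ rfl).trans h) (p_not_dvd_E hP)
  · exfalso
    have h1 : p ∣ R q := (Dvd.intro _ rfl).trans h
    exact hp.one_lt.ne' (Nat.dvd_one.1 (hP.coprime_p ▸ Nat.dvd_gcd h1 dvd_rfl))
  · subst h3
    have h1 : n ∣ 3 ^ 2 := (Dvd.intro_left _ rfl).trans h
    obtain ⟨k, hk, rfl⟩ := (Nat.dvd_prime_pow hp).1 h1
    rcases Nat.eq_zero_or_pos k with rfl | hk0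
    · exact Or.inl (by simp)
    · exact absurd (dvd_pow_self 3 hk0.ne') hn
  · subst h3
    have h1 : n ∣ 2 ^ 2 := (Dvd.intro_left _ rfl).trans h
    obtain ⟨k, hk, rfl⟩ := (Nat.dvd_prime_pow hp).1 h1
    rcases Nat.eq_zero_or_pos k with rfl | hk0
    · exact Or.inl (by simp)
    · exact absurd (dvd_pow_self 2 hk0.ne') hn

theorem not_om_p_E (hP : Par p q) : ¬ Om p q (p * E q) := by
  intro h
  have h1 := E_big hP
  have hq := hP.big
  rcases om_p_mul hP (p_not_dvd_E hP) h with h2 | h2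
  · have := Nat.le_of_dvd (by omega) h2; omega
  · have := Nat.le_of_dvd (by omega) h2; omega

theorem not_om_eighteen (hP : Par 3 q) : ¬ Om 3 q 18 := by
  intro h
  have hq := hP.big
  have h3 : 3 ∣ q := hP.p_dvd
  have hE := p_not_dvd_E hP
  rcases h with h | h | h | h | ⟨-, h⟩ | ⟨h, -⟩
  · have := p_not_dvd_sub hP; omega
  · have := p_not_dvd_add hP; omega
  · exact hE ((by norm_num : 3 ∣ 18).trans h)
  · have h1 : 3 ∣ R q := (by norm_num : 3 ∣ 18).trans h
    have h2 := hP.coprime_p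
    exact absurd (Nat.dvd_one.1 (h2 ▸ Nat.dvd_gcd h1 dvd_rfl)) (by norm_num)
  · omega
  · omega

/-- a common prime divisor of `q - 1` and `q + 1` is two -/
theorem eq_two_of_dvd {s : ℕ} (hs : s.Prime) (hq : 1 ≤ q) (h1 : s ∣ q - 1) (h2 : s ∣ q + 1) : s = 2 := by
  have h3 : s ∣ (q + 1) - (q - 1) := Nat.dvd_sub h2 h1
  rw [show q + 1 - (q - 1) = 2 by omega] at h3
  exact (Nat.prime_dvd_prime_iff_eq hs Nat.prime_two).1 h3

theorem four_dvd {n k : ℕ} (h : 8 ∣ n * k) (h4 : ¬ 4 ∣ k) : 4 ∣ n := by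
  rcases Nat.even_or_odd k with he | ho
  · obtain ⟨l, rfl⟩ := he
    have hl : l % 2 = 1 := by omega
    have h5 : 4 ∣ n * l := by
      have h6 : n * (l + l) = 2 * (n * l) := by ring
      rw [h6] at h
      omega
    refine Nat.Coprime.dvd_of_dvd_mul_right ?_ h5
    have : Nat.Coprime (2 ^ 2) l := Nat.Coprime.pow_left _ (by rw [Nat.coprime_two_left]; exact Nat.odd_iff.2 hl)
    simpa using this
  · have h5 : Nat.Coprime 8 k := by
      have : Nat.Coprime (2 ^ 3) k := Nat.Coprime.pow_left _ (by rw [Nat.coprime_two_left]; exact ho)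
      simpa using this
    have := h5.dvd_of_dvd_mul_right h
    omega

end arith

/-- commuting of elements of prime order in a fixed-point-free group -/
theorem commute_prime {H : Type*} [Group H] [Finite H] (h : HasFPF H) {p s : ℕ} (hp : p.Prime) (hs : s.Prime)
    (hps : s ≠ p) {w g : H} (hw : orderOf w = p) (hg : orderOf g = s) [hn : (zpowers w).Normal] :
    Commute g w := by
  set A := zpowers g ⊔ zpowers w with hA
  have hcard : Nat.card A = p * s := by
    have h4 : (zpowers w).relIndex A = (zpowers w ⊓ zpowers g).relIndex (zpowers g) := by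
      rw [Subgroup.inf_relIndex_right, hA]
      exact Subgroup.relIndex_sup_right _ _
    have h5 : zpowers w ⊓ zpowers g = ⊥ := by
      have h8 : Nat.card (zpowers w ⊓ zpowers g : Subgroup H) = 1 := by
        have h6 : Nat.card (zpowers w ⊓ zpowers g : Subgroup H) ∣ p := by
          rw [← hw, ← Nat.card_zpowers]; exact Subgroup.card_dvd_of_le inf_le_left
        have h7 : Nat.card (zpowers w ⊓ zpowers g : Subgroup H) ∣ s := by
          rw [← hg, ← Nat.card_zpowers]; exact Subgroup.card_dvd_of_le inf_le_right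
        exact Nat.dvd_one.1 (((Nat.coprime_primes hp hs).2 hps.symm) ▸ Nat.dvd_gcd h6 h7)
      exact Subgroup.eq_bot_of_card_eq _ h8
    rw [h5, Subgroup.relIndex_bot_left, Nat.card_zpowers, hg] at h4
    have h10 := (⊥ : Subgroup H).relIndex_mul_relIndex (zpowers w) A bot_le le_sup_right
    rw [Subgroup.relIndex_bot_left, Subgroup.relIndex_bot_left, Nat.card_zpowers, hw, h4] at h10
    exact h10.symm
  have hc := (h.subgroup A).isCyclic_of_card hp hs hcard
  have hwA : w ∈ A := (le_sup_right : zpowers w ≤ A) (mem_zpowers w)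
  have hgA : g ∈ A := (le_sup_left : zpowers g ≤ A) (mem_zpowers g)
  have h1 : (⟨g, hgA⟩ : A) * ⟨w, hwA⟩ = ⟨w, hwA⟩ * ⟨g, hgA⟩ := by
    let := hc.commGroup
    exact mul_comm _ _
  exact congrArg Subtype.val h1

/-- the 2-parts -/
theorem two_part {H : Type*} [Group H] [Finite H] (h : HasFPF H) {c : ℕ} (hc : 3 ≤ c)
    (hexp : ∀ (x : H) (a : ℕ), orderOf x = 2 ^ a → a ≤ c) {x y : H} (hx : orderOf x = 2 ^ c)
    (hy : orderOf y = 2 ^ c) (hxy : ∀ g z : H, z ∈ zpowers x → z ∈ zpowers (g * y * g⁻¹) → z ^ 2 = 1) : False := by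
  have h2 := Fact.mk Nat.prime_two
  have hx2 : IsPGroup 2 (zpowers x) := IsPGroup.of_card (n := c) (by rw [Nat.card_zpowers, hx])
  have hy2 : IsPGroup 2 (zpowers y) := IsPGroup.of_card (n := c) (by rw [Nat.card_zpowers, hy])
  obtain ⟨Q, hQ⟩ := hx2.exists_le_sylow
  obtain ⟨Q', hQ'⟩ := hy2.exists_le_sylow
  obtain ⟨g, hg⟩ := MulAction.exists_smul_eq H Q' Q
  have hxQ : x ∈ (Q : Subgroup H) := hQ (mem_zpowers x)
  set y' := g * y * g⁻¹ with hy'
  have hyQ : y' ∈ (Q : Subgroup H) := by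
    rw [← hg]
    have h3 : y ∈ (Q' : Subgroup H) := hQ' (mem_zpowers y)
    rw [Sylow.coe_subgroup_smul, Subgroup.mem_pointwise_smul_iff_inv_smul_mem]
    have h4 : (MulAut.conj g)⁻¹ • y' = y := by
      rw [← map_inv, MulAut.smul_def, MulAut.conj_apply, hy']; group
    rwa [h4]
  have hyo : orderOf y' = 2 ^ c := by
    rw [hy', ← hy]
    exact orderOf_injective (MulAut.conj g).toMonoidHom (MulAut.conj g).injective y
  -- the order of `Q`
  have hcardQ : Nat.card (Q : Subgroup H) ≤ 2 ^ (c + 1) := by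
    rcases (h.subgroup (Q : Subgroup H)).cyclic_or_quaternion Nat.prime_two Q.2 with hcy | ⟨-, n, ⟨e⟩⟩
    · obtain ⟨z, hz⟩ := hcy.exists_generator
      have h3 : orderOf z = Nat.card (Q : Subgroup H) := orderOf_eq_card_of_forall_mem_zpowers hz
      obtain ⟨a, ha⟩ := (IsPGroup.iff_card.1 Q.2)
      have h4 := hexp z a (by rw [Subgroup.orderOf_coe, h3]; exact ha)
      have h5 : Nat.card (Q : Subgroup H) = 2 ^ a := ha
      rw [h5]
      exact Nat.pow_le_pow_right (by norm_num) (by omega)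
    · have h3 : orderOf (QuaternionGroup.a 1 : QuaternionGroup (2 ^ n)) = 2 ^ (n + 1) := by
        rw [QuaternionGroup.orderOf_a_one, pow_succ, mul_comm]
      have h4 := hexp (e.symm (QuaternionGroup.a 1)) (n + 1) (by
        rw [Subgroup.orderOf_coe, MulEquiv.orderOf_eq, h3])
      have h5 : Nat.card (Q : Subgroup H) = 4 * 2 ^ n := by
        rw [Nat.card_congr e.toEquiv, Nat.card_eq_fintype_card, QuaternionGroup.card]
      rw [h5, show 4 * 2 ^ n = 2 ^ (n + 2) by rw [pow_add]; ring]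
      exact Nat.pow_le_pow_right (by norm_num) (by omega)
  set X : Subgroup (Q : Subgroup H) := zpowers ⟨x, hxQ⟩ with hX
  set Y : Subgroup (Q : Subgroup H) := zpowers ⟨y', hyQ⟩ with hY
  have hXc : Nat.card X = 2 ^ c := by rw [hX, Nat.card_zpowers, orderOf_mk, hx]
  have hYc : Nat.card Y = 2 ^ c := by rw [hY, Nat.card_zpowers, orderOf_mk, hyo]
  have hYi : Y.index ≤ 2 := by
    have h3 := Y.card_mul_index
    rw [hYc] at h3
    have h4 : 2 ^ c * Y.index ≤ 2 ^ c * 2 := by
      rw [h3]; exact hcardQ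
    exact Nat.le_of_mul_le_mul_left h4 (by positivity)
  have hr : Y.relIndex X ≤ 2 := by
    have h3 := Subgroup.relIndex_le_of_le_right (H := Y) (K := X) (L := ⊤) le_top (by
      rw [Subgroup.relIndex_top_right]; exact Subgroup.index_ne_zero_of_finite)
    rw [Subgroup.relIndex_top_right] at h3
    exact h3.trans hYi
  have hcap : Nat.card (Y ⊓ X : Subgroup (Q : Subgroup H)) ≤ 2 := by
    -- all elements have square one, in a cyclic group
    have hcy : IsCyclic (Y ⊓ X : Subgroup (Q : Subgroup H)) :=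
      isCyclic_of_injective (Subgroup.inclusion (inf_le_right : Y ⊓ X ≤ X)) (Subgroup.inclusion_injective _)
    obtain ⟨z, hz⟩ := hcy.exists_generator
    rw [← orderOf_eq_card_of_forall_mem_zpowers hz]
    apply Nat.le_of_dvd (by norm_num)
    apply orderOf_dvd_of_pow_eq_one
    apply Subtype.ext
    apply Subtype.ext
    obtain ⟨i, hi⟩ := mem_zpowers_iff.1 z.2.1
    obtain ⟨j, hj⟩ := mem_zpowers_iff.1 z.2.2
    exact hxy g ((z : (Q : Subgroup H)) : H) (mem_zpowers_iff.2 ⟨j, congrArg Subtype.val hj⟩)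
      (mem_zpowers_iff.2 ⟨i, congrArg Subtype.val hi⟩)
  have h6 := (⊥ : Subgroup (Q : Subgroup H)).relIndex_mul_relIndex (Y ⊓ X) X bot_le inf_le_right
  rw [Subgroup.relIndex_bot_left, Subgroup.relIndex_bot_left, Subgroup.inf_relIndex_right, hXc] at h6
  have h7 : 2 ^ c ≤ 2 * 2 := by
    rw [← h6]; exact Nat.mul_le_mul hcap hr
  have h8 : 2 ^ 3 ≤ 2 ^ c := Nat.pow_le_pow_right (by norm_num) hc
  omega

end Cfsg.Agent.H374.P4
end

-- part: H374/P4/CompC
section
/-!
# Fixed-point-free groups: the contradiction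
-/

set_option autoImplicit false

namespace Cfsg.Agent.H374.P4

open Subgroup Cfsg.Agent.H348 Cfsg.Agent.H379.P4 Cfsg.Agent.H374.Quad

variable {p q : ℕ}

/-- an element of order `m` has a power of order `d` -/
theorem exists_pow_order {H : Type*} [Group H] [Finite H] {x : H} {m d : ℕ} (hx : orderOf x = m) (hd : d ∣ m) :
    orderOf (x ^ (m / d)) = d := by
  have hm : 0 < m := hx ▸ orderOf_pos x
  have hd0 : 0 < d := Nat.pos_of_dvd_of_pos hd hm
  have h1 : m / d ∣ orderOf x := by rw [hx]; exact Nat.div_dvd_of_dvd hd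
  rw [orderOf_pow_of_dvd (Nat.div_pos (Nat.le_of_dvd hm hd) hd0).ne' h1, hx,
    Nat.div_div_self hd hm.ne']

/-- a number all of whose prime divisors are two -/
theorem eq_two_pow {n : ℕ} (h0 : n ≠ 0) (h : ∀ s : ℕ, s.Prime → s ∣ n → s = 2) : ∃ c, n = 2 ^ c :=
  ⟨_, Nat.eq_prime_pow_of_unique_prime_dvd h0 (fun {d} hd hdn => h d hd hdn)⟩

theorem main_case (hP : Par p q) {H : Type*} [Group H] [Finite H] (h : HasFPF H)
    (hOm : ∀ x : H, Om p q (orderOf x)) (h1 : ∃ x : H, orderOf x = p * (q - 1))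
    (h2 : ∃ x : H, orderOf x = p * (q + 1)) (h3 : ∃ x : H, orderOf x = E q) (hp5 : 5 ≤ p) : False := by
  have hp := hP.prime
  have hbig := hP.big
  have hpodd : Odd p := hp.odd_of_ne_two (by omega)
  obtain ⟨hq2, hg2⟩ : q % 2 = 1 ∧ Nat.gcd 2 (q - 1) = 2 := by
    rcases hP.parity with ⟨-, a, b⟩ | ⟨a, -, -⟩
    · exact ⟨a, b⟩
    · omega
  have hEe := E_eq hP
  rw [hg2] at hEe
  have hq7 : 7 ≤ q := by
    have := hP.ne; omega
  obtain ⟨y, hy⟩ := h1
  obtain ⟨y', hy'⟩ := h2
  obtain ⟨x, hx⟩ := h3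
  set w := y ^ (p * (q - 1) / p) with hwdef
  have hw : orderOf w = p := exists_pow_order hy (Dvd.intro _ rfl)
  have hyw : Commute y w := (Commute.refl y).pow_right _
  have h15 : p = 5 → ∃ z : H, orderOf z = 15 := by
    intro h5
    have h6 : ¬ 3 ∣ q := by
      intro h6
      obtain ⟨n, hn⟩ := hP.pow
      rw [hn] at h6
      have := Nat.prime_three.dvd_of_dvd_pow h6
      rw [h5] at this
      norm_num at this
    have h7 : 3 ∣ q - 1 ∨ 3 ∣ q + 1 := by
      have h8 : q % 3 = 1 ∨ q % 3 = 2 := by (clear * - h6; omega)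
      rcases h8 with h8 | h8
      · left; omega
      · right; omega
    rcases h7 with h7 | h7
    · refine ⟨_, exists_pow_order (d := 15) hy ?_⟩
      rw [h5]
      obtain ⟨k, hk⟩ := h7
      exact ⟨k, by rw [hk]; ring⟩
    · refine ⟨_, exists_pow_order (d := 15) hy' ?_⟩
      rw [h5]
      obtain ⟨k, hk⟩ := h7
      exact ⟨k, by rw [hk]; ring⟩
  have huniq : ∀ w' : H, orderOf w' = p → w' ∈ zpowers w := fun w' hw' => unique_p h hp hp5 h15 hw hw'
  have hconj : ∀ g z : H, orderOf (g * z * g⁻¹) = orderOf z := fun g z =>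
    orderOf_injective (MulAut.conj g).toMonoidHom (MulAut.conj g).injective z
  have hwn : (zpowers w).Normal := by
    refine ⟨fun n hn g => ?_⟩
    obtain ⟨i, rfl⟩ := mem_zpowers_iff.1 hn
    rw [← conj_zpow]
    exact zpow_mem (huniq _ (by rw [hconj, hw])) i
  -- the action on `⟨w⟩`
  set ψ : H →* MulAut (zpowers w) := MulAut.conjNormal with hψ
  have hψ1 : ∀ g : H, ψ g = 1 ↔ Commute g w := by
    intro g
    constructor
    · intro h4
      have h5 : ((ψ g ⟨w, mem_zpowers w⟩ : zpowers w) : H) = w := by rw [h4]; rfl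
      rw [hψ, MulAut.conjNormal_apply] at h5
      exact mul_inv_eq_iff_eq_mul.1 h5
    · intro h4
      ext ⟨z, hz⟩
      obtain ⟨i, rfl⟩ := mem_zpowers_iff.1 hz
      rw [hψ, MulAut.conjNormal_apply]
      change g * w ^ i * g⁻¹ = w ^ i
      rw [(h4.zpow_right i).eq, mul_inv_cancel_right]
  have hcycw : IsCyclic (zpowers w) := inferInstance
  set k := orderOf (ψ x) with hk
  have hkp : k ∣ p - 1 := by
    have h4 : k ∣ Nat.card (MulAut (zpowers w)) := _root_.orderOf_dvd_natCard _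
    rwa [IsCyclic.card_mulAut, Nat.card_zpowers, hw, Nat.totient_prime hp] at h4
  have hkE : k ∣ E q := hx ▸ orderOf_map_dvd ψ x
  have hk0 : 0 < k := orderOf_pos _
  have hE0 : 0 < E q := by have := E_big hP; omega
  have hcomm : ∀ j : ℕ, Commute (x ^ j) w ↔ k ∣ j := by
    intro j
    rw [← hψ1, map_pow, hk, orderOf_dvd_iff_pow_eq_one]
  obtain ⟨n₁, hn₁⟩ := hkE
  have hn₁E : n₁ ∣ E q := ⟨k, by rw [hn₁]; ring⟩
  have hord : orderOf (x ^ k) = n₁ := by
    have h4 : E q / n₁ = k := by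
      rw [hn₁, Nat.mul_div_cancel]
      exact Nat.pos_of_ne_zero (by rintro rfl; omega)
    have h5 := exists_pow_order hx hn₁E
    rwa [h4] at h5
  have hpn : ¬ p ∣ n₁ := fun h4 => p_not_dvd_E hP (h4.trans hn₁E)
  -- `p n₁` is an element order
  have hor := om_p_mul hP hpn (by
    have h4 : Commute w (x ^ k) := ((hcomm k).2 dvd_rfl).symm
    have h5 := h4.orderOf_mul_eq_mul_orderOf_of_coprime
      (by rw [hw, hord]; exact (Nat.Prime.coprime_iff_not_dvd hp).2 hpn)
    rw [hw, hord] at h5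
    rw [← h5]
    exact hOm _)
  -- all primes of `E` divide `n₁`
  have hprime : ∀ s : ℕ, s.Prime → s ∣ E q → s ∣ n₁ := by
    intro s hs hsE
    have hsp : s ≠ p := by rintro rfl; exact p_not_dvd_E hP hsE
    have h4 := commute_prime h hp hs hsp hw (exists_pow_order hx hsE)
    rw [hcomm] at h4
    obtain ⟨l, hl⟩ := h4
    have h5 : E q / s * s = E q := Nat.div_mul_cancel hsE
    rw [hl, mul_assoc] at h5
    have h6 : l * s = n₁ := Nat.eq_of_mul_eq_mul_left hk0 (by rw [h5, ← hn₁])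
    exact ⟨l, by rw [← h6]; ring⟩
  have hsub := hP.sub_dvd
  rcases hor with hA | hB
  · -- `q + 1` is a power of two
    obtain ⟨c, hc⟩ := eq_two_pow (n := q + 1) (by omega) (by
      intro s hs hsd
      exact eq_two_of_dvd hs (by omega) ((hprime s hs (hsd.trans hsub.2)).trans hA) hsd)
    have hc3 : 3 ≤ c := by
      by_contra hlt
      have : 2 ^ c ≤ 2 ^ 2 := Nat.pow_le_pow_right (by norm_num) (by omega)
      omega
    have h8 : 8 ∣ q + 1 := by
      rw [hc]
      exact (pow_dvd_pow 2 hc3 : 2 ^ 3 ∣ 2 ^ c)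
    have hp4 : p % 4 = 3 := by
      obtain ⟨n, hn⟩ := hP.pow
      have h4 : p % 4 = 1 ∨ p % 4 = 3 := by
        have := Nat.odd_iff.1 hpodd; (clear * - this; omega)
      rcases h4 with h4 | h4
      · exfalso
        have h5 : q % 4 = 1 := by simp [hn, Nat.pow_mod, h4]
        omega
      · exact h4
    have hk4 : ¬ 4 ∣ k := by
      intro h4
      have := h4.trans hkp
      omega
    have h8E : 8 ∣ n₁ * k := by
      rw [mul_comm, ← hn₁]
      exact h8.trans hsub.2
    have h4n := (four_dvd h8E hk4).trans hA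
    (clear * - h8 h4n; omega)
  · -- `q - 1` is a power of two
    obtain ⟨c, hc⟩ := eq_two_pow (n := q - 1) (by omega) (by
      intro s hs hsd
      exact eq_two_of_dvd hs (by omega) hsd ((hprime s hs (hsd.trans hsub.1)).trans hB))
    have hc3 : 3 ≤ c := by
      by_contra hlt
      have : 2 ^ c ≤ 2 ^ 2 := Nat.pow_le_pow_right (by norm_num) (by omega)
      omega
    obtain ⟨m, hm⟩ : ∃ m, q + 1 = 2 * m := ⟨(q + 1) / 2, by omega⟩
    have h8 : 8 ∣ q - 1 := by
      rw [hc]
      exact (pow_dvd_pow 2 hc3 : 2 ^ 3 ∣ 2 ^ c)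
    have hmo : Odd m := by rw [Nat.odd_iff]; (clear * - hm h8; omega)
    have hEm : E q = 2 ^ c * m := by
      rw [hc, hm] at hEe
      have : E q * 2 = (2 ^ c * m) * 2 := by rw [hEe]; ring
      omega
    have hm0 : 0 < m := by omega
    -- the 2-parts
    have hx2 : orderOf (x ^ m) = 2 ^ c := by
      have h4 := exists_pow_order hx (d := 2 ^ c) (by rw [hEm]; exact Dvd.intro _ rfl)
      rwa [hEm, Nat.mul_div_cancel_left _ (by positivity)] at h4
    have hy2 : orderOf (y ^ p) = 2 ^ c := by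
      have h4 := exists_pow_order hy (d := q - 1) (Dvd.intro_left _ rfl)
      rwa [Nat.mul_div_cancel _ (by (clear * - hq7; omega)), hc] at h4
    have hk2 : 2 ^ (c - 1) ∣ k := by
      obtain ⟨n₂, hn₂⟩ := hB
      refine ⟨n₂, ?_⟩
      have h4 : n₁ * (2 ^ (c - 1) * n₂) = n₁ * k := by
        have h5 : 2 ^ c = 2 ^ (c - 1) * 2 := by rw [← pow_succ, Nat.sub_add_cancel (by omega)]
        calc n₁ * (2 ^ (c - 1) * n₂) = 2 ^ (c - 1) * (n₁ * n₂) := by ring
          _ = 2 ^ (c - 1) * 2 * m := by rw [← hn₂, hm]; ring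
          _ = n₁ * k := by rw [← h5, ← hEm, hn₁]; ring
      have h5 : 0 < n₁ := Nat.pos_of_ne_zero (by rintro rfl; omega)
      exact (Nat.eq_of_mul_eq_mul_left h5 h4).symm
    refine two_part h hc3 ?_ hx2 hy2 ?_
    · intro z a hz
      have h4 := hOm z
      rw [hz] at h4
      have h5 : 2 ^ a ∣ 2 ^ c * m := by
        have hcop : Nat.Coprime (2 ^ a) p := Nat.Coprime.pow_left _ (by rw [Nat.coprime_two_left]; exact hpodd)
        rcases h4 with h4 | h4 | h4 | h4 | ⟨h5, -⟩ | ⟨h5, -⟩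
        · rw [← hEm]; exact (hcop.dvd_of_dvd_mul_left h4).trans hsub.1
        · rw [← hEm]; exact (hcop.dvd_of_dvd_mul_left h4).trans hsub.2
        · rw [← hEm]; exact h4
        · have h6 : Nat.Coprime (2 ^ a) (R q) := Nat.Coprime.pow_left _ (by
            rw [Nat.coprime_two_left, Nat.odd_iff]; exact hP.R_odd)
          have h7 : 2 ^ a = 1 := Nat.dvd_one.1 (h6 ▸ Nat.dvd_gcd dvd_rfl h4)
          rw [h7]; exact one_dvd _
        · omega
        · omega
      have h6 : Nat.Coprime (2 ^ a) m := Nat.Coprime.pow_left _ (by rw [Nat.coprime_two_left]; exact hmo)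
      exact (Nat.pow_dvd_pow_iff_le_right (by norm_num)).1 (h6.dvd_of_dvd_mul_right h5)
    · intro g z hz1 hz2
      have h4 : Commute z w := by
        obtain ⟨i, rfl⟩ := mem_zpowers_iff.1 hz2
        apply Commute.zpow_left
        have h5 : Commute (g * y ^ p * g⁻¹) (g * w * g⁻¹) := by
          have h6 : Commute (y ^ p) w := hyw.pow_left p
          rw [commute_iff_eq]
          calc g * y ^ p * g⁻¹ * (g * w * g⁻¹) = g * (y ^ p * w) * g⁻¹ := by group
            _ = g * (w * y ^ p) * g⁻¹ := by rw [h6.eq]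
            _ = g * w * g⁻¹ * (g * y ^ p * g⁻¹) := by group
        have h6 : w ∈ zpowers (g * w * g⁻¹) :=
          unique_p h hp hp5 h15 (by rw [hconj, hw]) hw
        obtain ⟨j, hj⟩ := mem_zpowers_iff.1 h6
        rw [← hj]
        exact h5.zpow_right j
      rw [← mem_powers_iff_mem_zpowers] at hz1
      obtain ⟨j, hj⟩ := hz1
      have hj : (x ^ m) ^ j = z := hj
      rw [← hj, ← pow_mul, hcomm] at h4
      have h5 : 2 ^ (c - 1) ∣ j := by
        have h6 : Nat.Coprime (2 ^ (c - 1)) m := Nat.Coprime.pow_left _ (by rw [Nat.coprime_two_left]; exact hmo)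
        exact h6.dvd_of_dvd_mul_left (hk2.trans h4)
      obtain ⟨i, hi⟩ := h5
      rw [← hj, ← pow_mul, hi]
      have h6 : 2 ^ (c - 1) * i * 2 = orderOf (x ^ m) * i := by
        rw [hx2]
        have : 2 ^ c = 2 ^ (c - 1) * 2 := by rw [← pow_succ, Nat.sub_add_cancel (by omega)]
        rw [this]; ring
      rw [h6, pow_mul, pow_orderOf_eq_one, one_pow]

/-- **There is no fixed-point-free group with these element orders.** -/
theorem comp_false (hP : Par p q) {H : Type*} [Group H] [Finite H] (h : HasFPF H)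
    (hOm : ∀ x : H, Om p q (orderOf x)) (h1 : ∃ x : H, orderOf x = p * (q - 1))
    (h2 : ∃ x : H, orderOf x = p * (q + 1)) (h3 : ∃ x : H, orderOf x = E q)
    (h9 : p = 3 → ∃ x : H, orderOf x = 9) : False := by
  have hp := hP.prime
  have hbig := hP.big
  have h2' := Fact.mk Nat.prime_two
  have heven : 2 ∣ Nat.card H := by
    obtain ⟨x, hx⟩ := h1
    refine (?_ : 2 ∣ p * (q - 1)).trans (hx ▸ _root_.orderOf_dvd_natCard x)
    rcases hP.parity with ⟨-, h4, -⟩ | ⟨h4, -, -⟩
    · exact Dvd.dvd.mul_left (by omega) _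
    · rw [h4]; exact Dvd.intro _ rfl
  obtain ⟨t, ht⟩ := exists_prime_orderOf_dvd_card' (G := H) 2 heven
  have ht2 : t * t = 1 := by rw [← pow_two, ← ht, pow_orderOf_eq_one]
  have ht1 : t ≠ 1 := by rintro rfl; rw [orderOf_one] at ht; omega
  have hc := h.mem_center ht2 ht1
  have key : ∀ x : H, Odd (orderOf x) → Om p q (2 * orderOf x) := by
    intro x hx
    have h4 : Commute t x := by
      have := (Subgroup.mem_center_iff.1 hc x)
      exact this.symm
    have h5 := h4.orderOf_mul_eq_mul_orderOf_of_coprime (by rw [ht, Nat.coprime_two_left]; exact hx)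
    rw [ht] at h5
    rw [← h5]
    exact hOm _
  rcases Nat.lt_or_ge p 5 with hlt | hge
  · have h4 : p = 2 ∨ p = 3 := by
      have := hp.two_le
      have h4 : p ≠ 4 := by rintro rfl; exact absurd hp (by norm_num)
      omega
    rcases h4 with rfl | rfl
    · obtain ⟨x, hx⟩ := h3
      have h4 : Odd (orderOf x) := by
        rw [hx, Nat.odd_iff]
        have := p_not_dvd_E hP
        omega
      have := key x h4
      rw [hx] at this
      exact not_om_p_E hP this
    · obtain ⟨x, hx⟩ := h9 rfl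
      have := key x (by rw [hx]; decide)
      rw [hx] at this
      exact not_om_eighteen hP this
  · exact main_case hP h hOm h1 h2 h3 hge

end Cfsg.Agent.H374.P4
end

-- part: H374/P4/Rad
section
/-!
# The solvable radical of a group with the spectrum of `PSp₄(q)`
-/

set_option autoImplicit false

namespace Cfsg.Agent.H374.P4

open Subgroup Cfsg Cfsg.Agent.H466.Split Cfsg.Agent Cfsg.Agent.H374.R Finset
open Cfsg.Agent.H348 Cfsg.Agent.H379.P4 Cfsg.Agent.H374.Quad
open scoped commutatorElement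

universe u v

/-- fixed-point-free actions on groups in any universe -/
theorem hasFPF_mk {H : Type v} [Group H] {V : Type u} [CommGroup V] [Finite V] [Nontrivial V] (φ : H →* MulAut V)
    (h : ∀ a : H, a ≠ 1 → ∀ v : V, φ a v = v → v = 1) : HasFPF H := by
  have e : Shrink.{0} V ≃* V := Shrink.mulEquiv
  have hnt : Nontrivial (Shrink.{0} V) := e.toEquiv.nontrivial
  have hf : Finite (Shrink.{0} V) := Finite.of_equiv V e.symm.toEquiv
  refine ⟨Shrink.{0} V, inferInstance, hf, hnt, (MulAut.congr e.symm).toMonoidHom.comp φ, ?_⟩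
  intro a ha v hv
  have h1 : φ a (e v) = e v := by
    have h2 : e.symm (φ a (e v)) = v := hv
    have h3 := congrArg e h2
    rwa [MulEquiv.apply_symm_apply] at h3
  have h2 := h a ha _ h1
  exact (map_eq_one_iff e e.injective).1 h2

variable {p q : ℕ}

/-- the primes of the isolated torus -/
def A (q : ℕ) : Set ℕ := {r | r ∣ R q}

theorem spl (hP : Par p q) {G : Type u} [Group G] (hOm : ∀ g : G, Om p q (orderOf g)) : Spl (A q) G := by
  intro g
  rcases hP.om_cases (hOm g) with h | h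
  · left
    intro r hr hd
    exact hd.trans h
  · right
    intro r hr hd hrA
    exact hr.one_lt.ne' (Nat.dvd_one.1 (hP.coprime_lam h ▸ Nat.dvd_gcd hrA hd))

theorem p_not_mem (hP : Par p q) : p ∉ A q := fun h =>
  hP.prime.one_lt.ne' (Nat.dvd_one.1 (hP.coprime_p ▸ Nat.dvd_gcd h dvd_rfl))

theorem not_mem_of_dvd_E (hP : Par p q) {r : ℕ} (hr : r.Prime) (h : r ∣ E q) : r ∉ A q := fun h1 =>
  hr.one_lt.ne' (Nat.dvd_one.1 (hP.coprime_E ▸ Nat.dvd_gcd h1 h))

theorem om_R {m : ℕ} (h : m ∣ R q) : Om p q m := Or.inr (Or.inr (Or.inr (Or.inl h)))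

theorem om_E {m : ℕ} (h : m ∣ E q) : Om p q m := Or.inr (Or.inr (Or.inl h))

/-- **Fixed points on the centre of a nilpotent normal subgroup.** `V = ⟨v⟩` of prime order `e` is normal in `G ⧸ N`;
an element `x` outside acts on `⟨v⟩` such that no nontrivial power of its image centralises `v`. -/
theorem exists_fixed {B : Set ℕ} {G : Type u} [Group G] [Finite G] (hs : Spl B G) (N : Subgroup G) [N.Normal]
    (hNil : Group.IsNilpotent N) (hNB : ∀ r : ℕ, r.Prime → r ∣ Nat.card N → r ∉ B) {e : ℕ} (he : e.Prime) (heB : e ∈ B)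
    {v : G ⧸ N} (hv : orderOf v = e) (hn : ∀ g : G ⧸ N, g * v * g⁻¹ ∈ zpowers v) {s : ℕ} (hsp : s.Prime)
    (hsN : s ∣ Nat.card N) {x : G} (hx : ∀ r : ℕ, r.Prime → r ∣ orderOf x → r ∉ B) :
    ∃ z ∈ N, orderOf z = s ∧ Commute x z := by
  have hsQ : Spl B (G ⧸ N) := hs.quotient N
  have hsB : s ∉ B := hNB s hsp hsN
  obtain ⟨v0, hv0⟩ := Cent.exists_ne hNil hsp hsN
  set c : G ⧸ N := (x : G ⧸ N) with hc
  have hxc : ∀ r : ℕ, r.Prime → r ∣ orderOf c → r ∉ B := fun r hr hd =>
    hx r hr (hd.trans (orderOf_map_dvd (QuotientGroup.mk' N) x))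
  have hvB : ∀ r : ℕ, r.Prime → r ∣ orderOf v → r ∈ B := by
    intro r hr hd
    rw [hv] at hd
    rwa [(Nat.prime_dvd_prime_iff_eq hr he).1 hd]
  have hv1 : v ≠ 1 := by
    rintro rfl; rw [orderOf_one] at hv; exact he.one_lt.ne hv
  -- no nontrivial power of `c` commutes with a nontrivial element of `⟨v⟩`
  have hfree : ∀ i, 0 < i → i < orderOf c → ∀ a ∈ zpowers v, c ^ i * a = a * c ^ i → a = 1 := by
    intro i hi hi' a ha hcomm
    by_contra ha1
    refine hsQ.not_commute' (x := a) (y := c ^ i) ?_ ?_ ha1 ?_ ?_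
    · intro r hr hd
      exact hvB r hr (hd.trans (orderOf_dvd_of_mem_zpowers ha))
    · intro r hr hd
      exact hxc r hr (hd.trans (orderOf_pow_dvd i))
    · intro h
      exact absurd (Nat.le_of_dvd hi (orderOf_dvd_of_pow_eq_one h)) (not_le.2 hi')
    · exact hcomm.symm
  by_cases hN : ∀ w : Cent.N N s, ∏ i ∈ range (orderOf c), Cent.act N s (c ^ i) w = 1
  · exfalso
    have hn' : ∀ (g : G ⧸ N), ∀ a ∈ zpowers v, g * a * g⁻¹ ∈ zpowers v := by
      intro g a ha
      obtain ⟨k, rfl⟩ := mem_zpowers_iff.1 ha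
      rw [← conj_zpow]
      exact zpow_mem (hn g) k
    have h1 := Cfsg.Agent.H371.Frob.trivial_of_norm (Cent.act N s) (zpowers v) (c := c) (m := orderOf c) (e := s)
      (orderOf_pos c) (fun a ha i => by
        have := hn' (c ^ i)⁻¹ a ha
        rwa [inv_inv] at this) hfree (fun w => Cent.N_pow w) (by
        rw [Nat.card_zpowers, hv]
        exact (Nat.coprime_primes he hsp).2 (by rintro rfl; exact hsB heB)) hN v (mem_zpowers v) v0
    obtain ⟨b, hb⟩ := QuotientGroup.mk_surjective v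
    rw [← hb] at h1
    have h2 : b * (v0 : G) * b⁻¹ = v0 := by
      rw [← Cent.act_mk, h1]
    have h3 : Commute b (v0 : G) := mul_inv_eq_iff_eq_mul.1 h2
    have hv0' : (v0 : G) ≠ 1 := fun h => hv0 (Subtype.ext h)
    have h4 : orderOf (v0 : G) = s := by
      have := Fact.mk hsp
      exact orderOf_eq_prime v0.2.2.2 hv0'
    refine hs.not_commute he hsp heB hsB (x := b) (y := (v0 : G)) ?_ (by rw [h4]) (orderOf_pos b).ne'
      (orderOf_pos _).ne' h3
    rw [← hv, ← hb]
    exact orderOf_map_dvd (QuotientGroup.mk' N) b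
  · push Not at hN
    obtain ⟨w, hw⟩ := hN
    set z := ∏ i ∈ range (orderOf c), Cent.act N s (c ^ i) w with hz
    have h1 : Cent.act N s c z = z := by
      have h2 : ∀ k, Cent.act N s c (∏ i ∈ range k, Cent.act N s (c ^ i) w) * w =
          (∏ i ∈ range k, Cent.act N s (c ^ i) w) * Cent.act N s (c ^ k) w := by
        intro k
        rw [← Finset.prod_range_succ, Finset.prod_range_succ', map_prod, pow_zero, map_one, MulAut.one_apply]
        congr 1
        apply Finset.prod_congr rfl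
        intro i _
        rw [pow_succ', map_mul, MulAut.mul_apply]
      have h3 := h2 (orderOf c)
      rw [pow_orderOf_eq_one, map_one, MulAut.one_apply] at h3
      exact mul_right_cancel h3
    refine ⟨z, z.2.1, ?_, ?_⟩
    · have := Fact.mk hsp
      exact orderOf_eq_prime z.2.2.2 (fun h => hw (Subtype.ext h))
    · have h2 : x * (z : G) * x⁻¹ = z := by
        rw [← Cent.act_mk, ← hc, h1]
      exact mul_inv_eq_iff_eq_mul.1 h2

/-- a prime-order normal subgroup: the order of an element without commuting powers divides `e - 1` -/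
theorem orderOf_dvd_sub_one {Q : Type*} [Group Q] [Finite Q] {e : ℕ} (he : e.Prime) {v x : Q} (hv : orderOf v = e)
    (hn : (zpowers v).Normal) (hx : ∀ i : ℕ, Commute (x ^ i) v → x ^ i = 1) : orderOf x ∣ e - 1 := by
  have hcy : IsCyclic (zpowers v) := inferInstance
  set ψ : Q →* MulAut (zpowers v) := MulAut.conjNormal with hψ
  have h1 : orderOf x ∣ orderOf (ψ x) := by
    apply orderOf_dvd_of_pow_eq_one
    apply hx
    have h2 : ψ (x ^ orderOf (ψ x)) = 1 := by rw [map_pow, pow_orderOf_eq_one]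
    have h3 : ((ψ (x ^ orderOf (ψ x)) ⟨v, mem_zpowers v⟩ : zpowers v) : Q) = v := by rw [h2]; rfl
    rw [hψ, MulAut.conjNormal_apply] at h3
    exact mul_inv_eq_iff_eq_mul.1 h3
  have h4 : orderOf (ψ x) ∣ Nat.card (MulAut (zpowers v)) := _root_.orderOf_dvd_natCard _
  rw [IsCyclic.card_mulAut, Nat.card_zpowers, hv, Nat.totient_prime he] at h4
  exact h1.trans h4

/-- a number all of whose prime divisors are congruent to one -/
theorem modEq_one {n k : ℕ} (hn : n ≠ 0) (h : ∀ r : ℕ, r.Prime → r ∣ n → r ≡ 1 [MOD k]) : n ≡ 1 [MOD k] := by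
  induction n using Nat.recOnMul with
  | zero => exact absurd rfl hn
  | one => rfl
  | prime r hr => exact h r hr dvd_rfl
  | mul a b iha ihb =>
    have ha : a ≠ 0 := by rintro rfl; simp at hn
    have hb : b ≠ 0 := by rintro rfl; simp at hn
    have h1 := iha ha (fun r hr hd => h r hr (hd.mul_right b))
    have h2 := ihb hb (fun r hr hd => h r hr (hd.mul_left a))
    simpa using h1.mul h2

/-- subgroups of prime order `r ∈ B` of `G ⧸ N` are normal -/
theorem normal_prime {B : Set ℕ} {G : Type u} [Group G] [Finite G] (hs : Spl B G) (N : Subgroup G) [N.Normal]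
    (hN1 : N ≠ ⊥) (hNB : ∀ r : ℕ, r.Prime → r ∣ Nat.card N → r ∈ Bᶜ) (C : Subgroup (G ⧸ N))
    (hcomm : ∀ g h : G ⧸ N, ⁅g, h⁆ ∈ C) (hCB : ∀ g ∈ C, ∀ r : ℕ, r.Prime → r ∣ orderOf g → r ∈ B) {r u : ℕ}
    (hr : r.Prime) (hrB : r ∈ B) {b : G ⧸ N} (hb : orderOf b = r) (hu : u.Prime) (huB : u ∉ B) {w : G ⧸ N}
    (hw : orderOf w = u) : (zpowers b).Normal := by
  have hsQ : Spl B (G ⧸ N) := hs.quotient N
  have hsc : Spl Bᶜ G := hs.compl
  set D : Subgroup (G ⧸ N) := C ⊔ zpowers b with hD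
  have hDn : D.Normal := by
    refine ⟨fun d hd g => ?_⟩
    have h4 : g * d * g⁻¹ = ⁅g, d⁆ * d := by rw [commutatorElement_def]; group
    rw [h4]
    exact D.mul_mem (le_sup_left (a := C) (hcomm g d)) hd
  have hCn : C.Normal := by
    refine ⟨fun d hd g => ?_⟩
    have h4 : g * d * g⁻¹ = ⁅g, d⁆ * d := by rw [commutatorElement_def]; group
    rw [h4]
    exact C.mul_mem (hcomm g d) hd
  have hDA : ∀ r : ℕ, r.Prime → r ∣ Nat.card D → r ∈ B := by
    have hDm : D.map (QuotientGroup.mk' C) ≤ zpowers (QuotientGroup.mk' C b) := by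
      rw [hD, Subgroup.map_sup, MonoidHom.map_zpowers]
      refine sup_le ?_ le_rfl
      rw [Subgroup.map_le_iff_le_comap]
      intro c hc
      rw [Subgroup.mem_comap, show QuotientGroup.mk' C c = 1 from (QuotientGroup.eq_one_iff c).2 hc]
      exact one_mem _
    refine Rad.sub_mem ?_
    intro d hd s hs' hsd
    have h6 : d ^ r ∈ C := by
      rw [← QuotientGroup.eq_one_iff]
      obtain ⟨k, hk⟩ := Subgroup.mem_zpowers_iff.1 (hDm (Subgroup.mem_map_of_mem _ hd))
      have h7 : ((d : G ⧸ N) : (G ⧸ N) ⧸ C) = (QuotientGroup.mk' C b) ^ k := hk.symm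
      rw [QuotientGroup.mk_pow, h7, ← zpow_natCast, ← zpow_mul, mul_comm, zpow_mul, zpow_natCast, ← map_pow,
        ← hb, pow_orderOf_eq_one, map_one, one_zpow]
    by_cases hsr : s = r
    · rw [hsr]; exact hrB
    · refine hCB _ h6 s hs' ?_
      have h7 : orderOf d ∣ r * orderOf (d ^ r) := by
        apply orderOf_dvd_of_pow_eq_one
        rw [pow_mul, pow_orderOf_eq_one]
      rcases hs'.dvd_mul.1 (hsd.trans h7) with h8 | h8
      · exact absurd ((Nat.prime_dvd_prime_iff_eq hs' hr).1 h8) hsr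
      · exact h8
  have hDnil : Group.IsNilpotent D := by
    refine nilpotent_of_prime hsQ.compl D ?_ hu huB hw
    intro s hs' hd hn
    exact hn (hDA s hs' hd)
  have hbD : b ∈ D := le_sup_right (a := C) (mem_zpowers _)
  refine ⟨fun n hn g => ?_⟩
  obtain ⟨k, rfl⟩ := mem_zpowers_iff.1 hn
  rw [← conj_zpow]
  refine zpow_mem ?_ k
  refine Rad.unique_prime_quot hsc N hN1 hNB D (fun s hs' hd hn => hn (hDA s hs' hd)) hDnil hr hbD
    (hDn.conj_mem _ hbD g) hb ?_
  rw [conj_pow, ← hb, pow_orderOf_eq_one]; group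

/-- **Solvable normal subgroups are `A'`-groups.** -/
theorem rad (hP : Par p q) {G : Type u} [Group G] [Finite G] (hOm : ∀ g : G, Om p q (orderOf g))
    (hex : ∀ m, Om p q m → ∃ g : G, orderOf g = m) (K : Subgroup G) [hKn : K.Normal] (hK : Group.IsSolvable K) :
    ∀ r : ℕ, r.Prime → r ∣ Nat.card K → r ∉ A q := by
  intro r hr hrK hrA
  have hs : Spl (A q) G := spl hP hOm
  have hp := hP.prime
  have hbig := hP.big
  have hpA := p_not_mem hP
  have h2A : 2 ∉ A q := hP.two
  -- the largest normal `A'`-subgroup in `K`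
  have hch := OddOrderLocal.PiCore.piCore_characteristic (G := G) (A q)ᶜ
  set N : Subgroup G := piCore (A q)ᶜ G ⊓ K with hNdef
  have hNn : N.Normal := inferInstance
  have hNA : ∀ r : ℕ, r.Prime → r ∣ Nat.card N → r ∈ (A q)ᶜ := by
    intro r hr hd
    refine OddOrderLocal.PiCore.piCore_isPi (G := G) (A q)ᶜ r hr (hd.trans ?_)
    exact Subgroup.card_dvd_of_le inf_le_left
  have hNK : N ≤ K := inf_le_right
  set π := QuotientGroup.mk' N with hπ
  have hπs : Function.Surjective π := QuotientGroup.mk'_surjective N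
  have hker : π.ker = N := QuotientGroup.ker_mk' N
  have hsQ : Spl (A q) (G ⧸ N) := hs.quotient N
  set Kb : Subgroup (G ⧸ N) := K.map π with hKb
  have hKbn : Kb.Normal := Subgroup.Normal.map hKn π hπs
  have hKbs : Group.IsSolvable Kb := by
    have := hK
    exact Group.isSolvable_of_surjective (f := π.subgroupMap K) (π.subgroupMap_surjective K)
  have hKb1 : Kb ≠ ⊥ := by
    intro h
    rw [hKb, Subgroup.map_eq_bot_iff, hker] at h
    have : K = N := le_antisymm h hNK
    rw [this] at hrK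
    exact hNA r hr hrK hrA
  -- a minimal normal subgroup
  obtain ⟨V, hVn, hV1, hVK, hmin⟩ : ∃ V : Subgroup (G ⧸ N), V.Normal ∧ V ≠ ⊥ ∧ V ≤ Kb ∧
      ∀ L : Subgroup (G ⧸ N), L.Normal → L ≤ V → L = ⊥ ∨ L = V := by
    have hfin : {V : Subgroup (G ⧸ N) | V.Normal ∧ V ≠ ⊥ ∧ V ≤ Kb}.Finite := Set.toFinite _
    obtain ⟨V, ⟨hVn, hV0, hVK⟩, hVmin⟩ := hfin.exists_minimal ⟨Kb, hKbn, hKb1, le_rfl⟩
    refine ⟨V, hVn, hV0, hVK, ?_⟩
    intro L hL hLV
    by_cases hL0 : L = ⊥
    · exact Or.inl hL0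
    · exact Or.inr (le_antisymm hLV (hVmin ⟨hL, hL0, hLV.trans hVK⟩ hLV))
  have hVs : Group.IsSolvable V := by
    have := hKbs
    exact Group.isSolvable_of_isSolvable_injective (f := Subgroup.inclusion hVK) (Subgroup.inclusion_injective hVK)
  have hab : ∀ x ∈ V, ∀ y ∈ V, Commute x y := by
    have h1 : (⁅V, V⁆ : Subgroup (G ⧸ N)).Normal := inferInstance
    rcases hmin _ h1 (Subgroup.commutator_le_self V) with h2 | h2
    · intro x hx y hy
      rw [Subgroup.commutator_eq_bot_iff_le_centralizer] at h2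
      exact (Subgroup.mem_centralizer_iff.1 (h2 hx) y hy).symm
    · exfalso
      apply hV1
      have h3 : ∀ n, (derivedSeries V n).map V.subtype = V := by
        intro n
        induction n with
        | zero => rw [derivedSeries_zero, ← MonoidHom.range_eq_map, Subgroup.range_subtype]
        | succ n ih => rw [derivedSeries_succ, Subgroup.map_commutator, ih, h2]
      obtain ⟨n, hn⟩ := (Group.isSolvable_def V).1 hVs
      rw [← h3 n, hn, Subgroup.map_bot]
  obtain ⟨e, he, hpg, hexp⟩ := Cfsg.Agent.Lib.MinNormalNonabelian.abelian_structure V hV1 hmin hab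
  have hVe : ∀ r : ℕ, r.Prime → r ∣ Nat.card V → r = e := by
    intro r hr hd
    have := Fact.mk hr
    obtain ⟨v, hv⟩ := exists_prime_orderOf_dvd_card' (G := V) r hd
    have h1 : r ∣ e := by
      rw [← hv, ← Subgroup.orderOf_coe]
      exact orderOf_dvd_of_pow_eq_one (hexp v v.2)
    exact (Nat.prime_dvd_prime_iff_eq hr he).1 h1
  have heA : e ∈ A q := by
    by_contra heA
    -- the preimage of `V` would be larger than `N`
    have h1 : V.comap π ≤ N := by
      change V.comap π ≤ piCore (A q)ᶜ G ⊓ K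
      refine le_inf ?_ ?_
      · refine OddOrderLocal.PiCore.le_piCore (hVn.comap π) ?_
        intro r hr hd
        have := Fact.mk hr
        obtain ⟨g, hg⟩ := exists_prime_orderOf_dvd_card' (G := ↥(V.comap π)) r hd
        by_cases hgN : (g : G) ∈ N
        · exact order_mem (A := (A q)ᶜ) hNA hgN r hr (by rw [Subgroup.orderOf_coe, hg])
        · have h2 : orderOf (π (g : G)) = r := by
            refine orderOf_eq_prime ?_ ?_
            · rw [← map_pow, ← hg, ← Subgroup.orderOf_coe, pow_orderOf_eq_one, map_one]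
            · intro h
              exact hgN ((QuotientGroup.eq_one_iff _).1 h)
          have h3 : r ∣ e := by
            rw [← h2]
            exact orderOf_dvd_of_pow_eq_one (hexp _ g.2)
          rw [(Nat.prime_dvd_prime_iff_eq hr he).1 h3]
          exact heA
      · have h2 : V.comap π ≤ Kb.comap π := Subgroup.comap_mono hVK
        rwa [hKb, Subgroup.comap_map_eq, hker, sup_eq_left.2 hNK] at h2
    apply hV1
    rw [← Subgroup.map_comap_eq_self_of_surjective hπs V, Subgroup.map_eq_bot_iff, hker]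
    exact h1
  obtain ⟨v, hv1⟩ := (Subgroup.ne_bot_iff_exists_ne_one).1 hV1
  have hv1' : (v : G ⧸ N) ≠ 1 := fun h => hv1 (Subtype.ext h)
  have hvo : orderOf (v : G ⧸ N) = e := by
    have := Fact.mk he
    exact orderOf_eq_prime (hexp v v.2) hv1'
  -- its centralizer is an `A`-group
  set C : Subgroup (G ⧸ N) := centralizer (V : Set (G ⧸ N)) with hC
  have hCn : C.Normal := inferInstance
  have hCA' : ∀ g ∈ C, ∀ r : ℕ, r.Prime → r ∣ orderOf g → r ∈ A q := by
    intro g hg
    exact Rad.cent_elt hsQ hv1' (Rad.prime_mem he hvo heA) (Subgroup.mem_centralizer_iff.1 hg v v.2).symm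
  have hCA : ∀ r : ℕ, r.Prime → r ∣ Nat.card C → r ∈ A q := Rad.sub_mem hCA'
  -- the elements
  obtain ⟨x1, hx1⟩ := hex _ (Or.inl dvd_rfl : Om p q (p * (q - 1)))
  obtain ⟨x2, hx2⟩ := hex _ (Or.inr (Or.inl dvd_rfl) : Om p q (p * (q + 1)))
  obtain ⟨x3, hx3⟩ := hex _ (om_E dvd_rfl : Om p q (E q))
  have hEprime : ∀ r : ℕ, r.Prime → r ∣ p * E q → r ∉ A q := by
    intro r hr hd
    rcases hr.dvd_mul.1 hd with h1 | h1
    · rw [(Nat.prime_dvd_prime_iff_eq hr hp).1 h1]; exact hpA
    · exact not_mem_of_dvd_E hP hr h1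
  have hx1A : ∀ r : ℕ, r.Prime → r ∣ orderOf x1 → r ∉ A q := fun r hr hd =>
    hEprime r hr (hd.trans (hx1 ▸ Nat.mul_dvd_mul_left p hP.sub_dvd.1))
  have hx2A : ∀ r : ℕ, r.Prime → r ∣ orderOf x2 → r ∉ A q := fun r hr hd =>
    hEprime r hr (hd.trans (hx2 ▸ Nat.mul_dvd_mul_left p hP.sub_dvd.2))
  have hx3A : ∀ r : ℕ, r.Prime → r ∣ orderOf x3 → r ∉ A q := fun r hr hd =>
    hEprime r hr (hd.trans (hx3 ▸ Dvd.intro_left _ rfl))
  by_cases hN1 : N = ⊥
  · -- a fixed-point-free group
    have hinj : Function.Injective π := by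
      rw [← MonoidHom.ker_eq_bot_iff, hker, hN1]
    have h2dvd : 2 ∣ p * (q - 1) := by
      rcases hP.parity with ⟨-, h4, -⟩ | ⟨h4, -, -⟩
      · exact Dvd.dvd.mul_left (by omega) _
      · rw [h4]; exact Dvd.intro _ rfl
    have ht := exists_pow_order hx1 h2dvd
    set t := x1 ^ (p * (q - 1) / 2) with htdef
    have ht' : orderOf (π t) = 2 := by rw [orderOf_injective π hinj, ht]
    -- `t` inverts `V`
    have htV : ∀ w ∈ V, π t * w * (π t)⁻¹ = w⁻¹ := by
      intro w hw
      have htt : π t * π t = 1 := by rw [← pow_two, ← ht', pow_orderOf_eq_one]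
      set w' := π t * w * (π t)⁻¹ with hw'
      have hw'V : w' ∈ V := hVn.conj_mem w hw _
      have h4 : π t * (w * w') * (π t)⁻¹ = w * w' := by
        have h5 : π t * w' * (π t)⁻¹ = w := by
          rw [hw']
          have : π t * (π t * w * (π t)⁻¹) * (π t)⁻¹ = (π t * π t) * w * (π t * π t)⁻¹ := by group
          rw [this, htt]; group
        calc π t * (w * w') * (π t)⁻¹ = (π t * w * (π t)⁻¹) * (π t * w' * (π t)⁻¹) := by group
          _ = w' * w := by rw [h5]
          _ = w * w' := (hab w' hw'V w hw).eq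
      have h6 : w * w' = 1 := by
        by_contra hne
        refine hsQ.not_commute' (x := w * w') (y := π t) ?_ ?_ hne ?_ ?_
        · exact order_mem (A := A q) (fun r hr hd => by rw [hVe r hr hd]; exact heA) (V.mul_mem hw hw'V)
        · exact Rad.prime_mem (S := (A q)ᶜ) Nat.prime_two ht' h2A
        · intro h; rw [h, orderOf_one] at ht'; omega
        · exact (mul_inv_eq_iff_eq_mul.1 h4).symm
      exact eq_inv_of_mul_eq_one_right h6
    have hcomm : ∀ g : G ⧸ N, ⁅π t, g⁆ ∈ C := by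
      intro g
      rw [hC, Subgroup.mem_centralizer_iff]
      intro w hw
      have hgw : g⁻¹ * w * g ∈ V := by
        have := hVn.conj_mem w hw g⁻¹
        rwa [inv_inv] at this
      have hti : ∀ W ∈ V, (π t)⁻¹ * W * π t = W⁻¹ := by
        intro W hW
        have h7 := htV (W⁻¹) (V.inv_mem hW)
        rw [inv_inv] at h7
        calc (π t)⁻¹ * W * π t = (π t)⁻¹ * (π t * W⁻¹ * (π t)⁻¹) * π t := by rw [h7]
          _ = W⁻¹ := by group
      have e2 : ⁅π t, g⁆ * w * (⁅π t, g⁆)⁻¹ = w := by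
        rw [commutatorElement_def]
        calc π t * g * (π t)⁻¹ * g⁻¹ * w * (π t * g * (π t)⁻¹ * g⁻¹)⁻¹
            = π t * (g * ((π t)⁻¹ * (g⁻¹ * w * g) * π t) * g⁻¹) * (π t)⁻¹ := by group
          _ = π t * w⁻¹ * (π t)⁻¹ := by rw [hti _ hgw]; group
          _ = w := by rw [htV _ (V.inv_mem hw), inv_inv]
      exact (mul_inv_eq_iff_eq_mul.1 e2).symm
    -- the quotient by `C`
    set σ : G →* (G ⧸ N) ⧸ C := (QuotientGroup.mk' C).comp π with hσ
    have hσs : Function.Surjective σ := (QuotientGroup.mk'_surjective C).comp hπs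
    have hOmQ : ∀ z : (G ⧸ N) ⧸ C, Om p q (orderOf z) := by
      intro z
      obtain ⟨g, rfl⟩ := hσs z
      exact (hOm g).of_dvd (orderOf_map_dvd σ g)
    have hord : ∀ g : G, (∀ r : ℕ, r.Prime → r ∣ orderOf g → r ∉ A q) → orderOf (σ g) = orderOf g := by
      intro g hg
      apply Nat.dvd_antisymm (orderOf_map_dvd σ g)
      apply orderOf_dvd_of_pow_eq_one
      have h4 : π (g ^ orderOf (σ g)) ∈ C := by
        rw [← QuotientGroup.eq_one_iff]
        change σ (g ^ orderOf (σ g)) = 1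
        rw [map_pow, pow_orderOf_eq_one]
      apply hinj
      rw [map_one]
      refine eq_one_of_both (A := A q) (hCA' _ h4) ?_
      intro r hr hd
      exact hg r hr (hd.trans ((orderOf_map_dvd π _).trans (orderOf_pow_dvd _)))
    have hQA : ∀ r : ℕ, r.Prime → r ∣ Nat.card ((G ⧸ N) ⧸ C) → r ∉ A q := by
      intro r hr hd hrA
      have := Fact.mk hr
      obtain ⟨z, hz⟩ := exists_prime_orderOf_dvd_card' (G := (G ⧸ N) ⧸ C) r hd
      obtain ⟨g, rfl⟩ := QuotientGroup.mk'_surjective C z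
      have hcm : Commute (σ t) (QuotientGroup.mk' C g) := by
        have h4 := hcomm g
        rw [← QuotientGroup.eq_one_iff] at h4
        rw [← commutatorElement_eq_one_iff_commute]
        rw [commutatorElement_def] at h4 ⊢
        exact h4
      have hσt : orderOf (σ t) = 2 := by
        rw [hord t (Rad.prime_mem (S := (A q)ᶜ) Nat.prime_two ht h2A), ht]
      have hr2 : r ≠ 2 := by rintro rfl; exact h2A hrA
      have h5 := hcm.orderOf_mul_eq_mul_orderOf_of_coprime (by
        rw [hσt, hz]; exact (Nat.coprime_primes Nat.prime_two hr).2 hr2.symm)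
      rw [hσt, hz] at h5
      have h6 := hOmQ (σ t * QuotientGroup.mk' C g)
      rw [h5] at h6
      have h7 := hP.om_coprime h6 ⟨r, hr, hrA, Dvd.intro_left _ rfl⟩
      exact h2A ((Dvd.intro _ rfl).trans h7)
    have hVab : ∀ a b : V, a * b = b * a := fun a b => Subtype.ext (hab a a.2 b b.2)
    let _ : CommGroup V := { (inferInstance : Group V) with mul_comm := hVab }
    have hVnt : Nontrivial V := ⟨v, 1, hv1⟩
    let φ : (G ⧸ N) ⧸ C →* MulAut V := QuotientGroup.lift C MulAut.conjNormal (by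
      intro g hg
      rw [MonoidHom.mem_ker]
      apply MulEquiv.ext
      intro w
      apply Subtype.ext
      rw [MulAut.conjNormal_apply, MulAut.one_apply]
      have h4 := Subgroup.mem_centralizer_iff.1 hg w w.2
      rw [← h4, mul_inv_cancel_right])
    have hFPF : HasFPF ((G ⧸ N) ⧸ C) := by
      refine hasFPF_mk φ ?_
      intro a ha w hw
      by_contra hw1
      obtain ⟨g, rfl⟩ := QuotientGroup.mk'_surjective C a
      apply ha
      have h4 : g * (w : G ⧸ N) * g⁻¹ = w := by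
        have h5 : ((MulAut.conjNormal g w : V) : G ⧸ N) = w := congrArg Subtype.val hw
        rwa [MulAut.conjNormal_apply] at h5
      have h5 : Commute g (w : G ⧸ N) := mul_inv_eq_iff_eq_mul.1 h4
      have hw1' : (w : G ⧸ N) ≠ 1 := fun h => hw1 (Subtype.ext h)
      have h6 := Rad.cent_elt hsQ hw1' (order_mem (A := A q) (fun r hr hd => by rw [hVe r hr hd]; exact heA) w.2) h5
      refine eq_one_of_both (A := A q) ?_ ?_
      · intro r hr hd
        exact h6 r hr (hd.trans (orderOf_map_dvd (QuotientGroup.mk' C) g))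
      · intro r hr hd
        exact hQA r hr (hd.trans (_root_.orderOf_dvd_natCard _))
    refine comp_false hP hFPF hOmQ ⟨σ x1, by rw [hord x1 hx1A, hx1]⟩ ⟨σ x2, by rw [hord x2 hx2A, hx2]⟩
      ⟨σ x3, by rw [hord x3 hx3A, hx3]⟩ ?_
    intro h3
    obtain ⟨x9, hx9⟩ := hex 9 (Or.inr (Or.inr (Or.inr (Or.inr (Or.inl ⟨h3, dvd_rfl⟩)))))
    refine ⟨σ x9, ?_⟩
    rw [hord x9, hx9]
    intro r hr hd
    rw [hx9] at hd
    have h4 : r ∣ 3 := hr.dvd_of_dvd_pow (n := 2) (by simpa using hd)
    rw [(Nat.prime_dvd_prime_iff_eq hr Nat.prime_three).1 h4, ← h3]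
    exact hpA
  · -- `N ≠ 1`
    have hsc : Spl (A q)ᶜ G := hs.compl
    have hVA : ∀ r : ℕ, r.Prime → r ∣ Nat.card V → r ∉ (A q)ᶜ := by
      intro r hr hd hn
      rw [hVe r hr hd] at hn
      exact hn heA
    have hVnil : Group.IsNilpotent V := by
      have : IsMulCommutative V := ⟨⟨fun a b => Subtype.ext (hab a a.2 b b.2)⟩⟩
      let : CommGroup V := { (inferInstance : Group V) with mul_comm := fun a b => Subtype.ext (hab a a.2 b b.2) }
      infer_instance
    have hVz : ∀ w ∈ V, w ∈ zpowers (v : G ⧸ N) := fun w hw =>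
      Rad.unique_prime_quot hsc N hN1 hNA V hVA hVnil he v.2 hw hvo (hexp w hw)
    have hVcyc : IsCyclic V := by
      refine ⟨⟨v, ?_⟩⟩
      intro w
      obtain ⟨k, hk⟩ := Subgroup.mem_zpowers_iff.1 (hVz w w.2)
      exact Subgroup.mem_zpowers_iff.2 ⟨k, Subtype.ext (by rw [Subgroup.coe_zpow, hk])⟩
    have hcomm : ∀ g h : G ⧸ N, ⁅g, h⁆ ∈ C := fun g h => commutator_mem_centralizer V hVcyc g h
    obtain ⟨b, hb⟩ := hex e (om_R heA)
    have hNnil : Group.IsNilpotent N := nilpotent_of_prime hs N (fun r hr hd => hNA r hr hd) he heA hb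
    -- fixed points
    have hfix : ∀ (s : ℕ) (x : G), s.Prime → s ∣ Nat.card N → (∀ r : ℕ, r.Prime → r ∣ orderOf x → r ∉ A q) →
        ¬ s ∣ orderOf x → Om p q (s * orderOf x) := by
      intro s x hsp hsN hx hsx
      obtain ⟨z, -, hz, hc⟩ := exists_fixed hs N hNnil (fun r hr hd => hNA r hr hd) he heA hvo
        (fun g => hVz _ (hVn.conj_mem _ v.2 g)) hsp hsN hx
      have h4 := hc.symm.orderOf_mul_eq_mul_orderOf_of_coprime (by
        rw [hz]; exact (Nat.Prime.coprime_iff_not_dvd hsp).2 hsx)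
      rw [hz] at h4
      rw [← h4]
      exact hOm _
    by_cases hpN : p ∣ Nat.card N
    · have h4 := hfix p x3 hp hpN hx3A (by rw [hx3]; exact p_not_dvd_E hP)
      rw [hx3] at h4
      exact not_om_p_E hP h4
    · rcases hP.R_eq with ⟨hp2, hq2, h2R, hRE⟩ | ⟨hp2, hq4, hRq, hRE⟩
      · -- `q` odd: `p` divides `r - 1` for all `r ∈ A`
        have hwo : orderOf (x1 ^ (p * (q - 1) / p)) = p := exists_pow_order hx1 (Dvd.intro _ rfl)
        set w : G ⧸ N := π (x1 ^ (p * (q - 1) / p)) with hw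
        have hwp : orderOf w = p := by
          have := Fact.mk hp
          refine orderOf_eq_prime ?_ ?_
          · have h5 : (x1 ^ (p * (q - 1) / p)) ^ p = 1 := orderOf_dvd_iff_pow_eq_one.1 (by rw [hwo])
            rw [hw, ← map_pow, h5, map_one]
          · intro h
            apply hpN
            have h5 : x1 ^ (p * (q - 1) / p) ∈ N := (QuotientGroup.eq_one_iff _).1 h
            rw [← hwo, ← Subgroup.orderOf_mk _ h5]
            exact _root_.orderOf_dvd_natCard _
        have hmod : R q ≡ 1 [MOD p] := by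
          apply modEq_one (by have := hP.R_big; omega)
          intro r hr hd
          obtain ⟨g, hg⟩ := hex r (om_R hd)
          have hgr : orderOf (π g) = r := by
            have := Fact.mk hr
            refine orderOf_eq_prime ?_ ?_
            · rw [← map_pow, ← hg, pow_orderOf_eq_one g, map_one]
            · intro h
              have h5 : g ∈ N := (QuotientGroup.eq_one_iff _).1 h
              refine hNA r hr ?_ hd
              rw [← hg, ← Subgroup.orderOf_mk _ h5]
              exact _root_.orderOf_dvd_natCard _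
          have h5 := normal_prime hs N hN1 hNA C hcomm hCA' hr hd hgr hp hpA hwp
          have h6 := orderOf_dvd_sub_one hr hgr h5 (x := w) (by
            intro i hi
            by_contra hne
            refine hsQ.not_commute' (x := π g) (y := w ^ i) (Rad.prime_mem hr hgr hd) ?_ ?_ hne hi.symm
            · intro s hs' hsd
              have h7 := hsd.trans (orderOf_pow_dvd i)
              rw [hwp] at h7
              rw [(Nat.prime_dvd_prime_iff_eq hs' hp).1 h7]
              exact hpA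
            · intro h
              rw [h, orderOf_one] at hgr
              exact hr.one_lt.ne hgr)
          rw [hwp] at h6
          exact ((Nat.modEq_iff_dvd' hr.one_le).2 h6).symm
        have h5 : 2 * R q ≡ 2 * 1 [MOD p] := hmod.mul_left 2
        have h6 : q * q + 1 ≡ 0 + 1 [MOD p] := by
          refine Nat.ModEq.add_right 1 ?_
          exact (Nat.modEq_zero_iff_dvd).2 (hP.p_dvd.mul_right q)
        rw [h2R] at h5
        have h7 := h6.symm.trans h5
        have h8 : p ∣ 2 * 1 - (0 + 1) := (Nat.modEq_iff_dvd' (by norm_num)).1 h7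
        exact hp.one_lt.ne' (Nat.dvd_one.1 h8)
      · -- `q` even
        have hNc : Nat.card N ≠ 1 := fun h => hN1 (Subgroup.eq_bot_of_card_eq _ h)
        obtain ⟨s, hsp, hsN⟩ := Nat.exists_prime_and_dvd hNc
        have hsp' : s ≠ p := by rintro rfl; exact hpN hsN
        have := Fact.mk hsp
        obtain ⟨z, hz⟩ := exists_prime_orderOf_dvd_card' (G := N) s hsN
        have h4 := hOm (z : G)
        rw [Subgroup.orderOf_coe, hz] at h4
        have hsE : s ∣ E q := by
          rcases hP.om_cases h4 with h5 | h5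
          · exact absurd h5 (hNA s hsp hsN)
          · rcases hsp.dvd_mul.1 h5 with h6 | h6
            · exfalso
              apply hsp'
              unfold ps at h6
              rw [hp2] at h6 ⊢
              have h7 : s ∣ 2 := hsp.dvd_of_dvd_pow (n := 2) (by simpa using h6)
              exact (Nat.prime_dvd_prime_iff_eq hsp Nat.prime_two).1 h7
            · exact h6
        have hs2 : s ≠ 2 := by rw [← hp2]; exact hsp'
        have hs3 : 3 ≤ s := by have := hsp.two_le; omega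
        have h5 : s ∣ (q - 1) * (q + 1) := by
          rw [← E_eq hP]; exact hsE.mul_right _
        rcases hsp.dvd_mul.1 h5 with h6 | h6
        · have h7 : ¬ s ∣ q + 1 := fun h7 => hs2 (eq_two_of_dvd hsp (by omega) h6 h7)
          have h8 : ¬ s ∣ p * (q + 1) := by
            intro h9
            rcases hsp.dvd_mul.1 h9 with h10 | h10
            · exact hsp' ((Nat.prime_dvd_prime_iff_eq hsp hp).1 h10)
            · exact h7 h10
          have h9 := hfix s x2 hsp hsN hx2A (by rw [hx2]; exact h8)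
          rw [hx2, show s * (p * (q + 1)) = p * (s * (q + 1)) by ring] at h9
          have h10 := om_p_mul hP (by
            intro h11
            rcases hp.dvd_mul.1 h11 with h12 | h12
            · exact hsp' ((Nat.prime_dvd_prime_iff_eq hp hsp).1 h12).symm
            · exact p_not_dvd_add hP h12) h9
          have h11 : 3 * (q + 1) ≤ s * (q + 1) := Nat.mul_le_mul_right _ hs3
          rcases h10 with h12 | h12
          · have := Nat.le_of_dvd (by omega) h12; omega
          · have := Nat.le_of_dvd (by omega) h12; omega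
        · have h7 : ¬ s ∣ q - 1 := fun h7 => hs2 (eq_two_of_dvd hsp (by omega) h7 h6)
          have h8 : ¬ s ∣ p * (q - 1) := by
            intro h9
            rcases hsp.dvd_mul.1 h9 with h10 | h10
            · exact hsp' ((Nat.prime_dvd_prime_iff_eq hsp hp).1 h10)
            · exact h7 h10
          have h9 := hfix s x1 hsp hsN hx1A (by rw [hx1]; exact h8)
          rw [hx1, show s * (p * (q - 1)) = p * (s * (q - 1)) by ring] at h9
          have h10 := om_p_mul hP (by
            intro h11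
            rcases hp.dvd_mul.1 h11 with h12 | h12
            · exact hsp' ((Nat.prime_dvd_prime_iff_eq hp hsp).1 h12).symm
            · exact p_not_dvd_sub hP h12) h9
          have h11 : 3 * (q - 1) ≤ s * (q - 1) := Nat.mul_le_mul_right _ hs3
          rcases h10 with h12 | h12
          · have := Nat.le_of_dvd (by omega) h12; omega
          · have := Nat.le_of_dvd (by omega) h12; omega

end Cfsg.Agent.H374.P4
end

-- part: H374/P4/Out
section
/-!
# Outer automorphisms: the abstract part, fixed fields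
-/

set_option autoImplicit false

namespace Cfsg.Agent.H374.P4

open Subgroup Cfsg Cfsg.Agent.H466.Split Cfsg.Agent
open Cfsg.Agent.H379.P4 Cfsg.Agent.H374.Quad

universe u v

/-- a cyclic quotient of two-power order -/
theorem out_of_hom {H : Type u} {Z : Type v} [Group H] [Finite H] [Group Z] [IsCyclic Z] (S : Subgroup H)
    [hS : S.Normal] (ρ : H →* Z) (hρ : ρ.ker = S)
    (h2 : ∀ (h : H) (l : ℕ), l.Prime → l ≠ 2 → orderOf (ρ h) = l → False) :
    IsCyclic (H ⧸ S) ∧ ∃ j : ℕ, Nat.card (H ⧸ S) = 2 ^ j := by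
  subst hρ
  have hinj := QuotientGroup.kerLift_injective ρ
  refine ⟨isCyclic_of_injective (QuotientGroup.kerLift ρ) hinj, ?_⟩
  refine ⟨(Nat.card (H ⧸ ρ.ker)).primeFactorsList.length, ?_⟩
  apply Nat.eq_prime_pow_of_unique_prime_dvd Nat.card_pos.ne'
  intro l hl hd
  by_contra hne
  have := Fact.mk hl
  obtain ⟨x, hx⟩ := exists_prime_orderOf_dvd_card' l hd
  obtain ⟨h, rfl⟩ := QuotientGroup.mk_surjective x
  refine h2 h l hl hne ?_
  rw [← hx, ← orderOf_injective _ hinj]
  rfl

section field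
variable {F : Type*} [Field F] [Finite F]

theorem finite_ringEquiv : Finite (F ≃+* F) :=
  Finite.of_injective (fun σ : F ≃+* F => (σ : F → F)) DFunLike.coe_injective

theorem isCyclic_ringAut : IsCyclic (F ≃+* F) := by
  obtain ⟨p, hp⟩ := CharP.exists F
  have hpp : Fact p.Prime := ⟨CharP.char_is_prime F p⟩
  let _ : Algebra (ZMod p) F := ZMod.algebra F p
  let φ : (F ≃ₐ[ZMod p] F) →* (F ≃+* F) :=
    { toFun := fun σ => σ.toRingEquiv
      map_one' := rfl
      map_mul' := fun _ _ => rfl }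
  have hφ : Function.Surjective φ := by
    intro σ
    refine ⟨AlgEquiv.ofRingEquiv (f := σ) ?_, ?_⟩
    · intro x
      have : (σ : F →+* F).comp (algebraMap (ZMod p) F) = algebraMap (ZMod p) F := Subsingleton.elim _ _
      exact RingHom.congr_fun this x
    · ext x
      rfl
  exact isCyclic_of_surjective φ hφ

/-- the fixed field of `σ` -/
theorem exists_fix (σ : F ≃+* F) :
    ∃ K : Subfield F, (∀ a, a ∈ K ↔ σ a = a) ∧ Nat.card F = Nat.card K ^ orderOf σ := by
  classical
  have := finite_ringEquiv (F := F)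
  have : Fintype (Subgroup.zpowers σ) := Fintype.ofFinite _
  let K := FixedPoints.subfield (Subgroup.zpowers σ) F
  have hK : ∀ a, a ∈ K ↔ σ a = a := by
    intro a
    constructor
    · intro h
      exact h ⟨σ, Subgroup.mem_zpowers σ⟩
    · rintro h ⟨τ, hτ⟩
      change τ a = a
      obtain ⟨k, rfl⟩ := Subgroup.mem_zpowers_iff.1 hτ
      have h1 : σ ∈ MulAction.stabilizer (F ≃+* F) a := h
      exact (MulAction.stabilizer (F ≃+* F) a).zpow_mem h1 k
  refine ⟨K, hK, ?_⟩
  have h1 := FixedPoints.finrank_eq_card (Subgroup.zpowers σ) F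
  rw [← Nat.card_eq_fintype_card, Nat.card_zpowers] at h1
  rw [← h1]
  exact Module.natCard_eq_pow_finrank

omit [Finite F] in
theorem charP_of_card [Fintype F] {p n : ℕ} (hp : p.Prime) (h : Fintype.card F = p ^ n) : CharP F p := by
  obtain ⟨r, hc⟩ := CharP.exists F
  obtain ⟨k, hr, hcard⟩ := FiniteField.card F r
  have h1 : r ∣ p ^ n := by rw [← h, hcard]; exact dvd_pow_self r k.ne_zero
  have h2 := (Nat.prime_dvd_prime_iff_eq hr hp).1 (hr.dvd_of_dvd_pow h1)
  rwa [h2] at hc

/-- squares -/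
theorem sq_dich [Fintype F] (a b : Fˣ) : (∃ s : Fˣ, a = s ^ 2) ∨ (∃ s : Fˣ, b = s ^ 2) ∨ ∃ s : Fˣ, b = a * s ^ 2 := by
  obtain ⟨g, hg⟩ := IsCyclic.exists_generator (α := Fˣ)
  obtain ⟨k, rfl⟩ := Subgroup.mem_zpowers_iff.1 (hg a)
  obtain ⟨l, rfl⟩ := Subgroup.mem_zpowers_iff.1 (hg b)
  rcases Int.even_or_odd' k with ⟨j, hj | hj⟩
  · left
    exact ⟨g ^ j, by rw [hj, mul_comm, _root_.zpow_mul, _root_.zpow_ofNat]⟩
  rcases Int.even_or_odd' l with ⟨i, hi | hi⟩
  · right; left
    exact ⟨g ^ i, by rw [hi, mul_comm, _root_.zpow_mul, _root_.zpow_ofNat]⟩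
  · right; right
    refine ⟨g ^ (i - j), ?_⟩
    rw [← _root_.zpow_natCast, ← _root_.zpow_mul, ← _root_.zpow_add, hi, hj]
    congr 1
    push_cast
    ring

/-- `a σ(a)` is a square -/
theorem sq_norm [Fintype F] (σ : F ≃+* F) (a : Fˣ) : ∃ s : Fˣ, (a : F) * σ a = (s : F) ^ 2 := by
  have hσ : ∀ x : Fˣ, ((Units.map (σ : F →* F) x : Fˣ) : F) = σ x := fun x => rfl
  rcases sq_dich a (Units.map (σ : F →* F) a) with ⟨s, hs⟩ | ⟨s, hs⟩ | ⟨s, hs⟩
  · refine ⟨s * Units.map (σ : F →* F) s, ?_⟩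
    rw [Units.val_mul, hσ, hs, Units.val_pow_eq_pow_val, map_pow, mul_pow]
  · refine ⟨Units.map (σ.symm : F →* F) s * s, ?_⟩
    have h1 : (a : F) = (σ.symm (s : F)) ^ 2 := by
      rw [← map_pow, ← Units.val_pow_eq_pow_val, ← hs, hσ, RingEquiv.symm_apply_apply]
    have h2 : σ (a : F) = (s : F) ^ 2 := by
      rw [← hσ, hs, Units.val_pow_eq_pow_val]
    rw [h2, h1, Units.val_mul, mul_pow]
    rfl
  · refine ⟨a * s, ?_⟩
    rw [← hσ, hs, Units.val_mul, Units.val_pow_eq_pow_val, Units.val_mul]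
    ring

end field

/-- squares and odd powers -/
theorem exists_s {q k l : ℕ} (hq : 0 < q) (hl : Odd l) (h : q ^ 2 = k ^ l) : ∃ s, k = s ^ 2 ∧ q = s ^ l := by
  obtain ⟨m, rfl⟩ := hl
  have h1 : (k ^ m) ^ 2 ∣ q ^ 2 := by
    rw [h, ← pow_mul, mul_comm m 2, pow_succ]
    exact Dvd.intro _ rfl
  obtain ⟨s, rfl⟩ := (Nat.pow_dvd_pow_iff (by norm_num)).1 h1
  have hk : 0 < k := by
    rcases Nat.eq_zero_or_pos k with h0 | h0
    · exfalso
      have h2 : k ^ (2 * m + 1) = 0 := by rw [h0]; exact zero_pow (Nat.succ_ne_zero _)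
      rw [h2] at h
      exact (pow_pos hq 2).ne' h
    · exact h0
  have h2 : k = s ^ 2 := by
    have h3 : k ^ (2 * m) * s ^ 2 = k ^ (2 * m) * k := by
      rw [← pow_succ, ← h, mul_pow, ← pow_mul, mul_comm m 2]
    exact (Nat.eq_of_mul_eq_mul_left (pow_pos hk _) h3).symm
  refine ⟨s, h2, ?_⟩
  rw [h2, ← pow_mul, pow_succ]

theorem exists_r {s : ℕ} (hs : 2 ≤ s) : ∃ r : ℕ, r.Prime ∧ r ≠ 2 ∧ r ∣ s ^ 2 + 1 := by
  by_contra hcon
  push Not at hcon
  have h1 : s ^ 2 + 1 = 2 ^ (s ^ 2 + 1).primeFactorsList.length :=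
    Nat.eq_prime_pow_of_unique_prime_dvd (by omega) (fun {d} hd hdv => by
      by_contra hne
      exact hcon d hd hne hdv)
  have h2 : 4 ≤ s ^ 2 := Nat.pow_le_pow_left hs 2
  have h3 : (s ^ 2) % 4 ≠ 3 := by
    have : s % 4 < 4 := Nat.mod_lt _ (by norm_num)
    rw [Nat.pow_mod]
    interval_cases s % 4 <;> norm_num
  rcases Nat.lt_or_ge (s ^ 2 + 1).primeFactorsList.length 2 with h4 | h4
  · interval_cases (s ^ 2 + 1).primeFactorsList.length <;> omega
  · obtain ⟨c, hc⟩ := Nat.exists_eq_add_of_le h4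
    rw [hc, pow_add] at h1
    omega

variable {p q : ℕ}

theorem mem_A_of_dvd (hP : Par p q) {s l : ℕ} (hq : q = s ^ l) (hl : Odd l) {r : ℕ} (hr : r.Prime) (hr2 : r ≠ 2)
    (h : r ∣ s ^ 2 + 1) : r ∈ A q := by
  have h1 : r ∣ q ^ 2 + 1 := by
    have h2 : s ^ 2 + 1 ∣ (s ^ 2) ^ l + 1 ^ l := Odd.nat_add_dvd_pow_add_pow _ _ hl
    rw [one_pow, ← pow_mul, mul_comm 2 l, pow_mul, ← hq] at h2
    exact h.trans h2
  rw [← hP.R_mul] at h1
  refine (Nat.Coprime.dvd_of_dvd_mul_right ?_ h1)
  rw [Nat.Prime.coprime_iff_not_dvd hr]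
  intro h3
  have h4 := h3.trans (Nat.gcd_dvd_left _ _)
  exact hr2 ((Nat.prime_dvd_prime_iff_eq hr Nat.prime_two).1 h4)

theorem exists_elt_sl {K : Type*} [Field K] [Fintype K] {s r : ℕ} (hK : Fintype.card K = s ^ 2) (hr : r.Prime)
    (h : r ∣ s ^ 2 + 1) : ∃ x : Matrix.SpecialLinearGroup (Fin 2) K, orderOf x = r := by
  classical
  have := Fact.mk hr
  apply exists_prime_orderOf_dvd_card' r
  rw [ClassicalGeometry.PSL2Basic.card_SL2, hK]
  have h1 : (s ^ 2) ^ 2 - 1 = (s ^ 2 + 1) * (s ^ 2 - 1) := by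
    rw [← Nat.sq_sub_sq, one_pow]
  rw [h1]
  exact (h.mul_right _).mul_left _

end Cfsg.Agent.H374.P4
end

-- part: H374/P4/Emb
section
/-!
# `PSL₂(q²)` in `PSp₄(q)`
-/

set_option autoImplicit false

namespace Cfsg.Agent.H374.P4.Emb

open Matrix Cfsg

variable {F E : Type*} [Field F] [Field E] [Algebra F E] (b : Module.Basis (Fin 2) F E)

/-- The Gram matrix of the trace form. -/
noncomputable def T : Matrix (Fin 2) (Fin 2) F := Algebra.traceMatrix F b

theorem T_symm : (T b)ᵀ = T b := by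
  ext i j
  rw [transpose_apply, T, Algebra.traceMatrix_apply, Algebra.traceMatrix_apply,
    Algebra.traceForm_apply, Algebra.traceForm_apply, mul_comm]

theorem T_mul (x : E) : T b * Algebra.leftMulMatrix b x = (Algebra.leftMulMatrix b x)ᵀ * T b := by
  have key : ∀ i j, (T b * Algebra.leftMulMatrix b x) i j = Algebra.trace F E (b i * (x * b j)) := by
    intro i j
    rw [Matrix.mul_apply]
    have h1 : x * b j = ∑ k, (Algebra.leftMulMatrix b x k j) • b k := by
      simp only [Algebra.leftMulMatrix_eq_repr_mul]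
      exact (b.sum_repr _).symm
    rw [h1, Finset.mul_sum, map_sum]
    refine Finset.sum_congr rfl fun k _ => ?_
    rw [T, Algebra.traceMatrix_apply, Algebra.traceForm_apply, mul_smul_comm, map_smul, smul_eq_mul, mul_comm]
  ext i j
  rw [key]
  have h2 : (Algebra.leftMulMatrix b x)ᵀ * T b = (T b * Algebra.leftMulMatrix b x)ᵀ := by
    rw [transpose_mul, T_symm]
  rw [h2, transpose_apply, key]
  congr 1
  ring

theorem det_T [FiniteDimensional F E] [Algebra.IsSeparable F E] : IsUnit (T b).det := by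
  have := Algebra.discr_not_zero_of_basis F b
  exact isUnit_iff_ne_zero.2 this

variable {b}

theorem conj_T (hT : IsUnit (T b).det) (x : E) :
    (T b)⁻¹ * (Algebra.leftMulMatrix b x)ᵀ = Algebra.leftMulMatrix b x * (T b)⁻¹ := by
  have h := T_mul b x
  calc (T b)⁻¹ * (Algebra.leftMulMatrix b x)ᵀ
      = (T b)⁻¹ * ((Algebra.leftMulMatrix b x)ᵀ * T b) * (T b)⁻¹ := by
        rw [mul_assoc, mul_assoc, Matrix.mul_nonsing_inv _ hT, mul_one]
    _ = Algebra.leftMulMatrix b x * (T b)⁻¹ := by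
        rw [← h, ← mul_assoc, Matrix.nonsing_inv_mul _ hT, one_mul]

theorem T_inv_symm : ((T b)⁻¹)ᵀ = (T b)⁻¹ := by rw [transpose_nonsing_inv, T_symm]

variable (b)

/-- Restriction of scalars. -/
noncomputable def blk (g : Matrix (Fin 2) (Fin 2) E) : Matrix (Fin 2 ⊕ Fin 2) (Fin 2 ⊕ Fin 2) F :=
  fromBlocks (Algebra.leftMulMatrix b (g 0 0)) (Algebra.leftMulMatrix b (g 0 1) * (T b)⁻¹)
    (T b * Algebra.leftMulMatrix b (g 1 0)) (Algebra.leftMulMatrix b (g 1 1))ᵀ

variable {b}

theorem blk_mul (hT : IsUnit (T b).det) (g h : Matrix (Fin 2) (Fin 2) E) : blk b (g * h) = blk b g * blk b h := by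
  unfold blk
  rw [fromBlocks_multiply]
  simp only [Matrix.mul_apply, Fin.sum_univ_two, map_add, map_mul]
  congr 1
  · congr 1
    rw [mul_assoc, ← mul_assoc (T b)⁻¹, Matrix.nonsing_inv_mul _ hT, one_mul]
  · rw [add_mul, mul_assoc, mul_assoc, mul_assoc, conj_T hT]
  · rw [mul_add, ← mul_assoc, ← mul_assoc, mul_assoc, mul_assoc]
    congr 1
    rw [← mul_assoc, ← mul_assoc (Algebra.leftMulMatrix b (g 1 1))ᵀ, ← T_mul]
  · rw [transpose_add]
    congr 1
    · rw [← map_mul, mul_comm (g 1 0), map_mul, transpose_mul]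
      rw [mul_assoc, ← mul_assoc (Algebra.leftMulMatrix b (g 1 0)), ← map_mul, mul_comm (g 1 0)]
      rw [← mul_assoc, T_mul, mul_assoc, Matrix.mul_nonsing_inv _ hT, mul_one, map_mul, transpose_mul]
    · rw [← map_mul, mul_comm (g 1 1), map_mul, transpose_mul]

theorem blk_one : blk b (1 : Matrix (Fin 2) (Fin 2) E) = 1 := by
  unfold blk
  simp only [_root_.Matrix.one_apply_eq, _root_.map_one, _root_.Fin.isValue, _root_.ne_eq, _root_.zero_ne_one, _root_.not_false_eq_true, _root_.Matrix.one_apply_ne, _root_.map_zero, _root_.MulZeroClass.zero_mul, _root_.one_ne_zero, _root_.MulZeroClass.mul_zero, _root_.Matrix.transpose_one, _root_.Matrix.fromBlocks_one]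

theorem blk_mem (hT : IsUnit (T b).det) {g : Matrix (Fin 2) (Fin 2) E} (hg : g.det = 1) :
    blk b g ∈ symplecticGroup (Fin 2) F := by
  rw [blk, SymplecticGroup.fromBlocks_mem_iff]
  have hc : ∀ x y : E, Algebra.leftMulMatrix b x * Algebra.leftMulMatrix b y =
      Algebra.leftMulMatrix b y * Algebra.leftMulMatrix b x := fun x y => by
    rw [← map_mul, mul_comm, map_mul]
  refine ⟨?_, ?_, ?_⟩
  · rw [transpose_mul, T_symm, ← mul_assoc, ← T_mul, mul_assoc, hc, ← mul_assoc, T_mul]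
  · rw [transpose_mul, T_inv_symm, transpose_transpose, conj_T hT, mul_assoc, conj_T hT, ← mul_assoc, ← mul_assoc, hc]
  · rw [transpose_mul, T_symm]
    have h1 : (Algebra.leftMulMatrix b (g 1 0))ᵀ * T b * (Algebra.leftMulMatrix b (g 0 1) * (T b)⁻¹) =
        (Algebra.leftMulMatrix b (g 0 1 * g 1 0))ᵀ := by
      rw [← T_mul, mul_assoc, ← mul_assoc (Algebra.leftMulMatrix b (g 1 0)), ← map_mul, ← mul_assoc, T_mul,
        mul_assoc, Matrix.mul_nonsing_inv _ hT, mul_one, mul_comm (g 1 0)]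
    rw [h1, ← transpose_mul, ← map_mul, ← transpose_sub, ← map_sub, mul_comm (g 1 1), ← det_fin_two, hg, map_one,
      transpose_one]

/-- `SL₂(E) → Sp₄(F)`. -/
noncomputable def hom (hT : IsUnit (T b).det) : _root_.Matrix.SpecialLinearGroup (Fin 2) E →* symplecticGroup (Fin 2) F where
  toFun g := ⟨blk b g.1, blk_mem hT g.2⟩
  map_one' := Subtype.ext blk_one
  map_mul' g h := Subtype.ext (blk_mul hT g.1 h.1)

/-- `SL₂(E) → PSp₄(F)`. -/
noncomputable def homP (hT : IsUnit (T b).det) : _root_.Matrix.SpecialLinearGroup (Fin 2) E →* PSp 2 F :=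
  (QuotientGroup.mk' _).comp (hom hT)

theorem lam_scalar {x : E} {a : F} (h : Algebra.leftMulMatrix b x = a • 1) : x = algebraMap F E a := by
  apply Algebra.leftMulMatrix_injective b
  rw [h, AlgHom.commutes, Algebra.algebraMap_eq_smul_one]

theorem homP_eq_one (hT : IsUnit (T b).det) {g : _root_.Matrix.SpecialLinearGroup (Fin 2) E} (hg : homP hT g = 1) :
    g ∈ Subgroup.center (_root_.Matrix.SpecialLinearGroup (Fin 2) E) := by
  rw [homP, MonoidHom.comp_apply, ← MonoidHom.mem_ker, QuotientGroup.ker_mk',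
    LieClassical.SympCenter.mem_center_iff] at hg
  obtain ⟨a, ha⟩ := hg
  have h0 : blk b g.1 = fromBlocks (a • 1) 0 0 (a • 1) := by
    rw [← smul_zero a, ← fromBlocks_smul, fromBlocks_one]
    exact ha
  rw [blk, fromBlocks_inj] at h0
  obtain ⟨h1, h2, h3, h4⟩ := h0
  have e1 := lam_scalar h1
  have e4 : g.1 1 1 = algebraMap F E a := by
    apply lam_scalar (b := b)
    rw [← transpose_transpose (Algebra.leftMulMatrix b (g.1 1 1)), h4, transpose_smul, transpose_one]
  have e2 : g.1 0 1 = 0 := by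
    apply Algebra.leftMulMatrix_injective b
    rw [map_zero, ← mul_one (Algebra.leftMulMatrix b (g.1 0 1)), ← Matrix.nonsing_inv_mul _ hT, ← mul_assoc, h2,
      zero_mul]
  have e3 : g.1 1 0 = 0 := by
    apply Algebra.leftMulMatrix_injective b
    rw [map_zero, ← one_mul (Algebra.leftMulMatrix b (g.1 1 0)), ← Matrix.nonsing_inv_mul _ hT, mul_assoc, h3,
      mul_zero]
  rw [Subgroup.mem_center_iff]
  intro h
  apply Subtype.ext
  have e : g.1 = algebraMap F E a • (1 : Matrix (Fin 2) (Fin 2) E) := by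
    ext i j
    (revert i j; simp only [e1, e2, e3, e4, _root_.Fin.forall_fin_succ, _root_.Matrix.smul_apply, _root_.smul_eq_mul, Fin.isValue, _root_.Fin.succ_zero_eq_one, _root_.IsEmpty.forall_iff, _root_.and_true, _root_.Matrix.one_apply_eq, _root_.mul_one, Nat.reduceAdd, _root_.ne_eq, _root_.zero_ne_one, _root_.not_false_eq_true, _root_.Matrix.one_apply_ne, _root_.MulZeroClass.mul_zero, _root_.and_self, _root_.Fin.succ_ne_zero])
  change h.1 * g.1 = g.1 * h.1
  rw [e, mul_smul_comm, smul_mul_assoc, mul_one, one_mul]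

theorem homP_center (hT : IsUnit (T b).det) {g : _root_.Matrix.SpecialLinearGroup (Fin 2) E}
    (hg : g ∈ Subgroup.center (_root_.Matrix.SpecialLinearGroup (Fin 2) E)) : homP hT g = 1 := by
  rw [homP, MonoidHom.comp_apply, ← MonoidHom.mem_ker, QuotientGroup.ker_mk',
    LieClassical.SympCenter.mem_center_iff]
  rw [Matrix.SpecialLinearGroup.mem_center_iff] at hg
  obtain ⟨r, hr, hg⟩ := hg
  rw [Fintype.card_fin] at hr
  have hr' : ∃ a : F, algebraMap F E a = r := by
    rcases sq_eq_one_iff.1 hr with rfl | rfl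
    · exact ⟨1, map_one _⟩
    · exact ⟨-1, by rw [map_neg, map_one]⟩
  obtain ⟨a, rfl⟩ := hr'
  refine ⟨a, ?_⟩
  change blk b g.1 = _
  have h1 : Algebra.leftMulMatrix b (algebraMap F E a) = a • (1 : Matrix (Fin 2) (Fin 2) F) := by
    rw [AlgHom.commutes, Algebra.algebraMap_eq_smul_one]
  have h2 : fromBlocks (a • (1 : Matrix (Fin 2) (Fin 2) F)) 0 0 (a • 1) =
      a • (1 : Matrix (Fin 2 ⊕ Fin 2) (Fin 2 ⊕ Fin 2) F) := by
    rw [← fromBlocks_one, fromBlocks_smul, smul_zero]
  have h3 : g.1 0 0 = algebraMap F E a := by rw [← hg]; simp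
  have h4 : g.1 1 1 = algebraMap F E a := by rw [← hg]; simp
  have h5 : g.1 0 1 = 0 := by rw [← hg]; simp
  have h6 : g.1 1 0 = 0 := by rw [← hg]; simp
  rw [← h2, blk, h3, h4, h5, h6, h1, map_zero, zero_mul, mul_zero, transpose_smul, transpose_one]

variable (b) in
/-- `PSL₂(E) → PSp₄(F)`. -/
theorem exists_emb (hT : IsUnit (T b).det) :
    ∃ ψ : ProjectiveSpecialLinearGroup (Fin 2) E →* PSp 2 F, Function.Injective ψ := by
  refine ⟨QuotientGroup.lift _ (homP hT) (fun g hg => homP_center hT hg), ?_⟩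
  rw [injective_iff_map_eq_one]
  intro x hx
  obtain ⟨g, rfl⟩ := QuotientGroup.mk_surjective x
  rw [QuotientGroup.eq_one_iff]
  exact homP_eq_one hT hx

/-- A finite field `F` has a field `E` of order `|F|²` with `PSL₂(E) ≤ PSp₄(F)`. -/
theorem exists_field (F : Type*) [Field F] [Fintype F] :
    ∃ (E : Type) (_ : Field E) (_ : Fintype E), Fintype.card E = Fintype.card F ^ 2 ∧
      ∃ ψ : ProjectiveSpecialLinearGroup (Fin 2) E →* PSp 2 F, Function.Injective ψ := by
  obtain ⟨p, hp⟩ := CharP.exists F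
  have : Fact p.Prime := ⟨CharP.char_is_prime F p⟩
  let E := FiniteField.Extension F p 2
  have : Fintype E := Fintype.ofFinite E
  refine ⟨E, inferInstance, this, ?_, ?_⟩
  · rw [← Nat.card_eq_fintype_card, ← Nat.card_eq_fintype_card]
    exact FiniteField.natCard_extension F p 2
  · let b : Module.Basis (Fin 2) F E :=
      (Module.finBasis F E).reindex (finCongr (FiniteField.finrank_extension F p 2))
    exact exists_emb b (det_T b)

end Cfsg.Agent.H374.P4.Emb
end

-- part: H374/P4/SemiSp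
section
/-!
# Automorphisms of `PSp₄(F)`: inner, field and graph automorphisms
-/

set_option autoImplicit false

namespace Cfsg.Agent.H374.P4.SemiSp

open Subgroup Cfsg Cfsg.Agent Matrix
open Cfsg.Agent.ClassicalGeometry.SympBasic Cfsg.Agent.ClassicalGeometry.SympAutSemi
open Cfsg.Agent.ClassicalGeometry.SympGamma

universe u v

variable {F : Type v} [Field F]

local notation "Sp" => Matrix.symplecticGroup (Fin 2) F
local notation "V" => (Fin 2 ⊕ Fin 2 → F)

/-- the projection -/
def pr : Sp →* PSp 2 F := QuotientGroup.mk' _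

theorem pr_surjective : Function.Surjective (pr : Sp → PSp 2 F) := QuotientGroup.mk'_surjective _

theorem Psi_pr (g : semiSim 2 F) (A : Sp) : Psi 2 F g (pr A) = pr (conjHom 2 F g A) := rfl

theorem rho_mem (A : Sp) : rho 2 F A ∈ semiSim 2 F := ⟨_, _, one_ne_zero, isSemi_rho A⟩

theorem scal_mem (a : Fˣ) : scal 2 F a ∈ semiSim 2 F := ⟨_, _, mul_ne_zero a.ne_zero a.ne_zero, isSemi_scal a⟩

theorem frob_mem (φ : F ≃+* F) : frobPerm 2 φ ∈ semiSim 2 F := ⟨_, _, one_ne_zero, isSemi_frobPerm φ⟩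

/-- inner automorphisms -/
theorem Psi_rho (A : Sp) : Psi 2 F ⟨rho 2 F A, rho_mem A⟩ = MulAut.conj (pr A) := by
  apply MulEquiv.ext
  intro x
  obtain ⟨B, rfl⟩ := pr_surjective x
  rw [Psi_pr, MulAut.conj_apply, ← map_inv, ← map_mul, ← map_mul]
  congr 1
  apply rho_injective
  rw [rho_conjHom, map_mul, map_mul, map_inv]

/-- field automorphisms -/
noncomputable def fr : (F ≃+* F) →* MulAut (PSp 2 F) :=
  (Psi 2 F).comp
    { toFun := fun φ => ⟨frobPerm 2 φ, frob_mem φ⟩
      map_one' := rfl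
      map_mul' := fun _ _ => rfl }

theorem fr_apply (φ : F ≃+* F) : fr φ = Psi 2 F ⟨frobPerm 2 φ, frob_mem φ⟩ := rfl

/-- entrywise action -/
def mp {K : Type*} [Field K] (i : K →+* F) : Matrix.symplecticGroup (Fin 2) K →* Sp where
  toFun A := ⟨(A : Matrix (Fin 2 ⊕ Fin 2) (Fin 2 ⊕ Fin 2) K).map i, SymplecticGroup.map_mem A.2 i⟩
  map_one' := by
    apply Subtype.ext
    simp only [_root_.OneMemClass.coe_one, _root_.map_zero, _root_.map_one, _root_.Matrix.map_one]
  map_mul' := by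
    intro A B
    apply Subtype.ext
    simp only [_root_.Submonoid.coe_mul, _root_.Matrix.map_mul, _root_.Submonoid.mk_mul_mk]

theorem mp_coe {K : Type*} [Field K] (i : K →+* F) (A : Matrix.symplecticGroup (Fin 2) K) :
    (mp i A : Matrix (Fin 2 ⊕ Fin 2) (Fin 2 ⊕ Fin 2) F) = (A : Matrix (Fin 2 ⊕ Fin 2) (Fin 2 ⊕ Fin 2) K).map i := rfl

theorem fr_pr (φ : F ≃+* F) (A : Sp) : fr φ (pr A) = pr (mp (φ : F →+* F) A) := by
  rw [fr_apply, Psi_pr]
  congr 1
  apply rho_injective
  rw [rho_conjHom]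
  apply Equiv.ext
  intro v
  obtain ⟨w, rfl⟩ := (frobPerm 2 φ).surjective v
  rw [Equiv.Perm.mul_apply, Equiv.Perm.mul_apply, perm_inv_apply_self, rho_apply, rho_apply, mp_coe]
  funext i
  rw [frobPerm_apply]
  simp only [mulVec, dotProduct, map_sum, map_mul, Matrix.map_apply, frobPerm_apply]
  rfl

/-- uniqueness of the field part and of the multiplier modulo squares -/
theorem uniq {g h : semiSim 2 F} {φ ψ : F ≃+* F} {l k : F} (hg : IsSemi g.1 φ l) (hh : IsSemi h.1 ψ k)
    (e : Psi 2 F g = Psi 2 F h) : φ = ψ ∧ ∃ a : Fˣ, l = k * (a : F) ^ 2 := by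
  obtain ⟨a, ha⟩ := exists_scal_of_Psi_eq_one (by norm_num) (g * h⁻¹) (by rw [map_mul, map_inv, e, mul_inv_cancel])
  have h1 : g.1 = scal 2 F a * h.1 := by
    rw [← ha]
    simp only [_root_.Subgroup.coe_mul, _root_.InvMemClass.coe_inv, _root_.inv_mul_cancel_right]
  have h2 := (isSemi_scal (m := 2) a).mul hh
  rw [← h1] at h2
  obtain ⟨e1, e2⟩ := IsSemi.unique (by norm_num) hg h2
  refine ⟨?_, a, ?_⟩
  · rw [e1]
    ext x
    rfl
  · rw [e2]
    change (a : F) * a * k = _
    ring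

theorem fr_injective : Function.Injective (fr : (F ≃+* F) → MulAut (PSp 2 F)) := by
  intro φ ψ h
  exact (uniq (isSemi_frobPerm φ) (isSemi_frobPerm ψ) h).1

/-- an inner field automorphism is trivial -/
theorem eq_one_of_inner {φ : F ≃+* F} {x : PSp 2 F} (h : fr φ = MulAut.conj x) : φ = 1 := by
  obtain ⟨A, rfl⟩ := pr_surjective x
  rw [← Psi_rho] at h
  exact (uniq (isSemi_frobPerm φ) (isSemi_rho A) h).1

/-- square multiplier -/
theorem exists_inner {g : semiSim 2 F} {φ : F ≃+* F} {s : Fˣ} (hg : IsSemi g.1 φ ((s : F) ^ 2)) :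
    ∃ A : Sp, Psi 2 F g = MulAut.conj (pr A) * fr φ := by
  have h1 := ((isSemi_scal (m := 2) s⁻¹).mul hg).mul ((isSemi_frobPerm (m := 2) φ).inv one_ne_zero)
  have h2 : φ.symm.trans (φ.trans (RingEquiv.refl F)) = RingEquiv.refl F := by ext a; simp
  have h3 : ((s⁻¹ : Fˣ) : F) * ((s⁻¹ : Fˣ) : F) * (RingEquiv.refl F) ((s : F) ^ 2) *
      (φ.trans (RingEquiv.refl F)) (φ.symm 1⁻¹) = 1 := by
    rw [inv_one, map_one, map_one, RingEquiv.refl_apply, mul_one]
    have : ((s⁻¹ : Fˣ) : F) * (s : F) = 1 := by rw [← Units.val_mul, inv_mul_cancel, Units.val_one]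
    calc ((s⁻¹ : Fˣ) : F) * ((s⁻¹ : Fˣ) : F) * (s : F) ^ 2
        = (((s⁻¹ : Fˣ) : F) * (s : F)) * (((s⁻¹ : Fˣ) : F) * (s : F)) := by ring
      _ = 1 := by rw [this, mul_one]
  rw [h2, h3] at h1
  obtain ⟨A, hA⟩ := exists_rho_eq _ h1.1 h1.2.1 (fun u v => by rw [h1.2.2, one_mul]; rfl)
  refine ⟨A, ?_⟩
  have h4 : (⟨rho 2 F A, rho_mem A⟩ : semiSim 2 F) = ⟨scal 2 F s⁻¹, scal_mem s⁻¹⟩ * g *
      (⟨frobPerm 2 φ, frob_mem φ⟩ : semiSim 2 F)⁻¹ := Subtype.ext hA
  have h5 := congrArg (Psi 2 F) h4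
  rw [Psi_rho, map_mul, map_mul, map_inv, Psi_scal, one_mul, ← fr_apply] at h5
  rw [h5, inv_mul_cancel_right]

/-- an element of order `r` of `SL₂(E)`, `E` quadratic over `K ⊆ F`, in `PSp₄(F)` -/
theorem orderOf_pr {K E : Type*} [Field K] [Field E] [Algebra K E] {b : Module.Basis (Fin 2) K E}
    (hT : IsUnit (Emb.T b).det) (i : K →+* F) {x : Matrix.SpecialLinearGroup (Fin 2) E} {r : ℕ} (hr : r.Prime)
    (hr2 : r ≠ 2) (hx : orderOf x = r) : orderOf (pr (mp i (Emb.hom hT x))) = r := by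
  have := Fact.mk hr
  apply orderOf_eq_prime
  · rw [← map_pow, ← map_pow, ← map_pow, ← hx, pow_orderOf_eq_one, map_one, map_one, map_one]
  · intro h
    rw [pr, ← MonoidHom.mem_ker, QuotientGroup.ker_mk', LieClassical.SympCenter.mem_center_iff] at h
    obtain ⟨a, ha⟩ := h
    have h1 : Emb.homP hT x = 1 := by
      rw [Emb.homP, MonoidHom.comp_apply, ← MonoidHom.mem_ker, QuotientGroup.ker_mk',
        LieClassical.SympCenter.mem_center_iff]
      refine ⟨(Emb.hom hT x).1 (Sum.inl 0) (Sum.inl 0), ?_⟩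
      have h2 : ∀ j k, i ((Emb.hom hT x).1 j k) = a * (1 : Matrix (Fin 2 ⊕ Fin 2) (Fin 2 ⊕ Fin 2) F) j k := by
        intro j k
        have := congrFun (congrFun ha j) k
        rw [mp_coe, Matrix.map_apply, Matrix.smul_apply, smul_eq_mul] at this
        exact this
      have h3 : i ((Emb.hom hT x).1 (Sum.inl 0) (Sum.inl 0)) = a := by
        rw [h2, Matrix.one_apply_eq, mul_one]
      ext j k
      apply i.injective
      rw [h2, Matrix.smul_apply, smul_eq_mul, map_mul, h3]
      congr 1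
      rw [Matrix.one_apply, Matrix.one_apply]
      split_ifs <;> simp
    have h4 := Emb.homP_eq_one hT h1
    rw [Matrix.SpecialLinearGroup.mem_center_iff] at h4
    obtain ⟨c, hc, hcx⟩ := h4
    rw [Fintype.card_fin] at hc
    have h6 : x ^ 2 = 1 := by
      apply Subtype.ext
      rw [Matrix.SpecialLinearGroup.coe_pow, ← hcx, ← map_pow, hc, map_one, Matrix.SpecialLinearGroup.coe_one]
    have h7 := orderOf_dvd_of_pow_eq_one h6
    rw [hx] at h7
    exact hr2 ((Nat.prime_dvd_prime_iff_eq hr Nat.prime_two).1 h7)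

/-- quadratic extensions -/
theorem exists_quad (K : Type*) [Field K] [Fintype K] :
    ∃ (E : Type) (_ : Field E) (_ : Fintype E) (_ : Algebra K E) (b : Module.Basis (Fin 2) K E),
      Fintype.card E = Fintype.card K ^ 2 ∧ IsUnit (Emb.T b).det := by
  obtain ⟨p, hp⟩ := CharP.exists K
  have : Fact p.Prime := ⟨CharP.char_is_prime K p⟩
  let E := FiniteField.Extension K p 2
  have : Fintype E := Fintype.ofFinite E
  let b : Module.Basis (Fin 2) K E :=
    (Module.finBasis K E).reindex (finCongr (FiniteField.finrank_extension K p 2))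
  refine ⟨E, inferInstance, this, inferInstance, b, ?_, Emb.det_T b⟩
  rw [← Nat.card_eq_fintype_card, ← Nat.card_eq_fintype_card]
  exact FiniteField.natCard_extension K p 2

/-- **Non-square similitudes**: an involutory automorphism centralising `SL₂(q²)`. -/
theorem exists_invol [Fintype F] {c : F} (hc0 : c ≠ 0) (h2 : (2 : F) ≠ 0) :
    ∃ g : semiSim 2 F, IsSemi g.1 (RingEquiv.refl F) c ∧ Psi 2 F g * Psi 2 F g = 1 ∧
      ∀ r : ℕ, r.Prime → r ≠ 2 → r ∣ Fintype.card F ^ 2 + 1 → ∃ y : Sp, orderOf (pr y) = r ∧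
        Commute (Psi 2 F g) (MulAut.conj (pr y)) := by
  classical
  obtain ⟨E, iE, iF, iA, b, hE, hT⟩ := exists_quad F
  -- a square root
  obtain ⟨ε, hε⟩ : ∃ ε : E, ε ^ 2 = algebraMap F E c := by
    have hcF : ringChar F ≠ 2 := by
      intro h
      apply h2
      have := ringChar.Nat.cast_ringChar (R := F)
      rw [h] at this
      exact_mod_cast this
    have hcE : ringChar E ≠ 2 := by
      intro h
      apply h2
      apply (algebraMap F E).injective
      have := ringChar.Nat.cast_ringChar (R := E)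
      rw [h] at this
      rw [map_zero, map_ofNat]
      exact_mod_cast this
    have hodd := FiniteField.odd_card_of_char_ne_two hcF
    have hsq : IsSquare (algebraMap F E c) := by
      rw [FiniteField.isSquare_iff hcE (by
        intro h
        exact hc0 ((algebraMap F E).injective (h.trans (map_zero _).symm)))]
      obtain ⟨k, hk⟩ : ∃ k, Fintype.card F = 2 * k + 1 := ⟨Fintype.card F / 2, by omega⟩
      have h3 : Fintype.card E / 2 = (Fintype.card F - 1) * (k + 1) := by
        rw [hE, hk]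
        have : (2 * k + 1) ^ 2 = 2 * ((2 * k + 1 - 1) * (k + 1)) + 1 := by
          rw [Nat.add_sub_cancel]; ring
        omega
      rw [h3, ← map_pow, pow_mul, FiniteField.pow_card_sub_one_eq_one c hc0, one_pow, map_one]
    obtain ⟨ε, hε⟩ := hsq
    exact ⟨ε, by rw [pow_two, hε]⟩
  set P : Matrix (Fin 2) (Fin 2) F := Algebra.leftMulMatrix b ε with hP
  have hPP : P * P = c • 1 := by
    rw [hP, ← map_mul, ← pow_two, hε, AlgHom.commutes, Algebra.algebraMap_eq_smul_one]
  set M : Matrix (Fin 2 ⊕ Fin 2) (Fin 2 ⊕ Fin 2) F := fromBlocks P 0 0 Pᵀ with hM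
  have hMblk : M = Emb.blk b (ε • (1 : Matrix (Fin 2) (Fin 2) E)) := by
    unfold Emb.blk
    simp [hM, hP]
  have hMM : M * M = c • 1 := by
    rw [hM, fromBlocks_multiply]
    simp only [mul_zero, zero_mul, add_zero, zero_add]
    rw [← transpose_mul, hPP, transpose_smul, transpose_one, ← fromBlocks_one, fromBlocks_smul, smul_zero]
  -- the isometry part
  have hA : fromBlocks (c⁻¹ • P) 0 0 Pᵀ ∈ Sp := by
    rw [SymplecticGroup.fromBlocks_mem_iff]
    refine ⟨by simp, by simp, ?_⟩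
    rw [transpose_zero, zero_mul, sub_zero, ← transpose_mul, mul_smul_comm, hPP, smul_smul, inv_mul_cancel₀ hc0,
      one_smul, transpose_one]
  set g₀ : Equiv.Perm V := rho 2 F ⟨_, hA⟩ * dilPerm 2 (Units.mk0 c hc0) with hg₀
  have hg₀v : ∀ v : V, g₀ v = M *ᵥ v := by
    intro v
    rw [hg₀, Equiv.Perm.mul_apply, rho_apply]
    have h3 : dilPerm 2 (Units.mk0 c hc0) v = fromBlocks (c • (1 : Matrix (Fin 2) (Fin 2) F)) 0 0 1 *ᵥ v := by
      funext i
      rw [fromBlocks_mulVec]
      rcases i with i | i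
      · rw [dilPerm_inl]
        simp [smul_mulVec]
      · rw [dilPerm_inr]
        simp
    rw [h3, mulVec_mulVec]
    congr 1
    change fromBlocks (c⁻¹ • P) 0 0 Pᵀ * _ = _
    rw [fromBlocks_multiply, hM]
    simp only [smul_smul, hc0, _root_.Algebra.mul_smul_comm, _root_.mul_one, _root_.ne_eq, _root_.not_false_eq_true, _root_.mul_inv_cancel₀, _root_.one_smul, _root_.MulZeroClass.mul_zero, _root_.add_zero, _root_.smul_zero, _root_.zero_add]
  have hg₀s : IsSemi g₀ (RingEquiv.refl F) c := by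
    have h3 := (isSemi_rho (m := 2) (⟨_, hA⟩ : Sp)).mul (isSemi_dilPerm (m := 2) (Units.mk0 c hc0))
    have h4 : (1 : F) * (RingEquiv.refl F) ((Units.mk0 c hc0 : Fˣ) : F) = c := by
      rw [RingEquiv.refl_apply, Units.val_mk0, one_mul]
    rw [h4] at h3
    exact h3
  refine ⟨⟨g₀, _, c, hc0, hg₀s⟩, hg₀s, ?_, ?_⟩
  · rw [← map_mul]
    have h3 : (⟨g₀, _, c, hc0, hg₀s⟩ * ⟨g₀, _, c, hc0, hg₀s⟩ : semiSim 2 F) =
        ⟨scal 2 F (Units.mk0 c hc0), scal_mem _⟩ := by
      apply Subtype.ext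
      apply Equiv.ext
      intro v
      change g₀ (g₀ v) = (c : F) • v
      rw [hg₀v, hg₀v, mulVec_mulVec, hMM, smul_mulVec, one_mulVec]
    rw [h3]
    exact Psi_scal _ _
  · intro r hr hr2 hrd
    obtain ⟨x, hx⟩ := exists_elt_sl (K := E) (s := Fintype.card F) hE hr hrd
    refine ⟨mp (RingHom.id F) (Emb.hom hT x), orderOf_pr hT _ hr hr2 hx, ?_⟩
    rw [← Psi_rho]
    have h3 : Commute (⟨g₀, _, c, hc0, hg₀s⟩ : semiSim 2 F)
        ⟨rho 2 F (mp (RingHom.id F) (Emb.hom hT x)), rho_mem _⟩ := by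
      apply Subtype.ext
      apply Equiv.ext
      intro v
      change g₀ (rho 2 F (mp (RingHom.id F) (Emb.hom hT x)) v) = rho 2 F (mp (RingHom.id F) (Emb.hom hT x)) (g₀ v)
      have h4 : ((mp (RingHom.id F) (Emb.hom hT x) : Sp) : Matrix (Fin 2 ⊕ Fin 2) (Fin 2 ⊕ Fin 2) F) =
          Emb.blk b x.1 := by
        rw [mp_coe]
        ext j k
        rfl
      rw [rho_apply, rho_apply, hg₀v, hg₀v, mulVec_mulVec, mulVec_mulVec, h4]
      congr 1
      rw [hMblk, ← Emb.blk_mul hT, ← Emb.blk_mul hT]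
      congr 1
      rw [smul_mul_assoc, mul_smul_comm, one_mul, mul_one]
    exact h3.map (Psi 2 F)

end Cfsg.Agent.H374.P4.SemiSp
end

-- part: H374/P4/OutSp
section
/-!
# Almost simple groups with socle `PSp₄(q)`
-/

set_option autoImplicit false

namespace Cfsg.Agent.H374.P4.OutSp

open Subgroup Cfsg Cfsg.Agent.H466.Split Cfsg.Agent Matrix
open Cfsg.Agent.ClassicalGeometry.SympBasic Cfsg.Agent.ClassicalGeometry.SympAutSemi
open Cfsg.Agent.ClassicalGeometry.SympGamma
open Cfsg.Agent.H374.R.LOut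
open Cfsg.Agent.H379.P4 Cfsg.Agent.H374.Quad Cfsg.Agent.H374.P4.SemiSp

universe u v

variable {F : Type v} [Field F] [Fintype F] {p q : ℕ}

local notation "Sp" => Matrix.symplecticGroup (Fin 2) F

/-- field automorphisms of odd prime order -/
theorem no_odd (hP : Par p q) {H : Type u} [Group H] [Finite H] (hs : Spl (A q) H) (S : Subgroup H) [S.Normal]
    (hC : centralizer (S : Set H) = ⊥) (hidx : ∀ r : ℕ, r.Prime → r ∈ A q → ¬ r ∣ S.index)
    (hF : Fintype.card F = q) (e : S ≃* PSp 2 F) {h : H} {φ : F ≃+* F} {l : ℕ} (hl : l.Prime) (hl2 : l ≠ 2)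
    (hφ : orderOf φ = l) (hT : T e h = fr φ) : False := by
  classical
  have hTi := T_injective e hC
  have hfin : Finite (F ≃+* F) := finite_ringEquiv
  have hlodd : Odd l := hl.odd_of_ne_two hl2
  have hoh : orderOf h = l := by
    rw [← orderOf_injective (T e) hTi, hT, orderOf_injective _ fr_injective, hφ]
  by_cases hlA : l ∈ A q
  · refine hidx l hl hlA ?_
    have h1 : orderOf (QuotientGroup.mk h : H ⧸ S) = l := by
      have := Fact.mk hl
      apply orderOf_eq_prime
      · rw [← QuotientGroup.mk_pow, ← hoh, pow_orderOf_eq_one, QuotientGroup.mk_one]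
      · intro h2
        rw [QuotientGroup.eq_one_iff] at h2
        have h3 : T e h = MulAut.conj (e ⟨h, h2⟩) := by
          rw [← T_ι e, ι_apply, MulEquiv.symm_apply_apply]
        rw [hT] at h3
        rw [eq_one_of_inner h3, orderOf_one] at hφ
        exact hl.one_lt.ne hφ
    rw [← h1]
    exact _root_.orderOf_dvd_natCard _
  · obtain ⟨K, hK, hcard⟩ := exists_fix φ
    rw [hφ, Nat.card_eq_fintype_card, hF] at hcard
    have : Fintype K := Fintype.ofFinite K
    rw [Nat.card_eq_fintype_card] at hcard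
    have hs2 : 2 ≤ Fintype.card K := Fintype.one_lt_card
    obtain ⟨r, hr, hr2, hrs⟩ := exists_r hs2
    have hrA := mem_A_of_dvd hP hcard hlodd hr hr2 hrs
    obtain ⟨E, iE, iF, iA, b, hE, hU⟩ := exists_quad K
    obtain ⟨x, hx⟩ := exists_elt_sl (K := E) (s := Fintype.card K) hE hr hrs
    set y : Sp := mp K.subtype (Emb.hom hU x) with hy
    have hyo : orderOf (pr y) = r := orderOf_pr hU _ hr hr2 hx
    have hfix : fr φ (pr y) = pr y := by
      rw [fr_pr]
      congr 1
      apply Subtype.ext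
      ext j k
      rw [mp_coe, Matrix.map_apply]
      exact (hK _).1 ((Emb.hom hU x).1 j k).2
    have hcomm : Commute h (ι e (pr y)) := by
      apply hTi
      rw [map_mul, map_mul, hT, T_ι]
      apply MulEquiv.ext
      intro z
      rw [MulAut.mul_apply, MulAut.mul_apply, MulAut.conj_apply, MulAut.conj_apply, map_mul, map_mul, map_inv, hfix]
    have hyo' : orderOf (ι e (pr y)) = r := by rw [orderOf_injective _ (ι_injective e), hyo]
    exact hs.not_commute hr hl hrA hlA (by rw [hyo']) (by rw [hoh]) (orderOf_pos _).ne' (orderOf_pos _).ne' hcomm.symm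

omit [Fintype F] in
/-- change of the representative -/
theorem exists_frob {H : Type u} [Group H] {S : Subgroup H} [S.Normal] (e : S ≃* PSp 2 F) {h : H} {g : semiSim 2 F}
    {φ : F ≃+* F} {s : Fˣ} (hT : T e h = Psi 2 F g) (hg : IsSemi g.1 φ ((s : F) ^ 2)) :
    ∃ h' : H, T e h' = fr φ ∧ h'⁻¹ * h ∈ S ∧ ∃ y ∈ S, h = y * h' := by
  obtain ⟨A, hA⟩ := exists_inner hg
  refine ⟨(ι e (SemiSp.pr A))⁻¹ * h, ?_, ?_, ι e (SemiSp.pr A), ι_mem e _, by rw [mul_inv_cancel_left]⟩
  · rw [map_mul, map_inv, T_ι, hT, hA, inv_mul_cancel_left]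
  · rw [_root_.mul_inv_rev, inv_inv]
    have h1 := (inferInstance : S.Normal).conj_mem _ (ι_mem e (SemiSp.pr A)) h⁻¹
    rwa [inv_inv] at h1

omit [Fintype F] in
/-- the field part, on the group of semisimilitudes -/
theorem exists_rho : ∃ ρ : (Psi 2 F).range →* (F ≃+* F), ∀ (g : semiSim 2 F) (φ : F ≃+* F) (l : F),
    IsSemi g.1 φ l → ρ ⟨Psi 2 F g, g, rfl⟩ = φ := by
  have hex : ∀ α : (Psi 2 F).range, ∃ (g : semiSim 2 F) (φ : F ≃+* F) (l : F), IsSemi g.1 φ l ∧ Psi 2 F g = α.1 := by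
    rintro ⟨α, g, rfl⟩
    obtain ⟨φ, l, hl, h⟩ := g.2
    exact ⟨g, φ, l, h, rfl⟩
  choose f ψ k hk hf using hex
  have hψ : ∀ (g : semiSim 2 F) (φ : F ≃+* F) (l : F), IsSemi g.1 φ l → ψ ⟨Psi 2 F g, g, rfl⟩ = φ := by
    intro g φ l h
    exact (uniq (hk _) h (hf _)).1
  refine ⟨MonoidHom.mk' ψ ?_, hψ⟩
  intro α β
  have h1 : α * β = ⟨Psi 2 F (f α * f β), f α * f β, rfl⟩ := by
    apply Subtype.ext
    change α.1 * β.1 = Psi 2 F (f α * f β)
    rw [map_mul, hf, hf]
  rw [h1]
  exact hψ _ _ _ ((hk α).mul (hk β))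

/-- **The outer part**, socle `PSp₄(q)`, `q` odd. -/
theorem out_odd (hP : Par p q) (hp2 : p ≠ 2) {H : Type u} [Group H] [Finite H] (hs : Spl (A q) H) (S : Subgroup H)
    [S.Normal] (hC : centralizer (S : Set H) = ⊥) (hidx : ∀ r : ℕ, r.Prime → r ∈ A q → ¬ r ∣ S.index)
    (hF : Fintype.card F = q) (e : S ≃* PSp 2 F) :
    IsCyclic (H ⧸ S) ∧ ∃ j : ℕ, Nat.card (H ⧸ S) = 2 ^ j := by
  classical
  have hfact := Fact.mk hP.prime
  obtain ⟨n, hn⟩ := hP.pow
  have hch : CharP F p := charP_of_card hP.prime (by rw [hF, hn])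
  have h2F : (2 : F) ≠ 0 := by
    intro h
    have h1 : p ∣ 2 := (CharP.cast_eq_zero_iff F p 2).1 (by exact_mod_cast h)
    exact hp2 ((Nat.prime_dvd_prime_iff_eq hP.prime Nat.prime_two).1 h1)
  have hTi := T_injective e hC
  have hcyc : IsCyclic (F ≃+* F) := isCyclic_ringAut
  have hfin : Finite (F ≃+* F) := finite_ringEquiv
  have hrange : ∀ α : MulAut (PSp 2 F), α ∈ (Psi 2 F).range := by
    intro α
    obtain ⟨g, hg⟩ := ClassicalGeometry.SympAutExists.exists_semi le_rfl α
      (ClassicalGeometry.SympAutOddA.recog le_rfl (Or.inr h2F) α)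
    exact ⟨g, hg⟩
  obtain ⟨ρ₀, hρ₀⟩ := exists_rho (F := F)
  let ρ : H →* (F ≃+* F) := ρ₀.comp ((T e).codRestrict (Psi 2 F).range (fun h => hrange _))
  have hρ : ∀ (h : H) (g : semiSim 2 F) (φ : F ≃+* F) (l : F), IsSemi g.1 φ l → T e h = Psi 2 F g → ρ h = φ := by
    intro h g φ l hg hh
    rw [← hρ₀ g φ l hg]
    change ρ₀ ⟨T e h, _⟩ = _
    congr 1
    exact Subtype.ext hh
  have hST : ∀ h ∈ S, ∃ A : Sp, T e h = Psi 2 F ⟨rho 2 F A, rho_mem A⟩ := by
    intro h hh
    obtain ⟨A, hA⟩ := SemiSp.pr_surjective (e ⟨h, hh⟩)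
    refine ⟨A, ?_⟩
    rw [Psi_rho, hA, ← T_ι e, ι_apply, MulEquiv.symm_apply_apply]
  -- the kernel
  have hker : ρ.ker = S := by
    apply le_antisymm
    · intro h hh
      rw [MonoidHom.mem_ker] at hh
      obtain ⟨g, hg⟩ := hrange (T e h)
      obtain ⟨φ, l, hl, hsem⟩ := id g.2
      have h1 : φ = 1 := by rw [← hh]; exact (hρ h g φ l hsem hg.symm).symm
      subst h1
      by_cases hsq : ∃ s : Fˣ, Units.mk0 l hl = s ^ 2
      · obtain ⟨s, hs⟩ := hsq
        have h2 : l = (s : F) ^ 2 := by rw [← Units.val_pow_eq_pow_val, ← hs, Units.val_mk0]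
        rw [h2] at hsem
        obtain ⟨A, hA⟩ := exists_inner hsem
        rw [map_one, mul_one, hg] at hA
        exact T_mem e hC hA
      · exfalso
        obtain ⟨g', hg', hgg, hex⟩ := exists_invol hl h2F
        -- `Psi g'` is in the image
        have h3 := (hsem.inv hl).mul hg'
        have h4 : (1 : F ≃+* F).symm l⁻¹ * (1 : F ≃+* F).symm l = ((1 : Fˣ) : F) ^ 2 := by
          change l⁻¹ * l = _
          rw [inv_mul_cancel₀ hl, Units.val_one, one_pow]
        rw [h4] at h3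
        obtain ⟨B, hB⟩ := exists_inner (g := g⁻¹ * g') h3
        have h5 : (RingEquiv.refl F).trans (1 : F ≃+* F).symm = 1 := rfl
        rw [h5, map_one, mul_one, map_mul, map_inv, inv_mul_eq_iff_eq_mul, hg, ← T_ι e, ← map_mul] at hB
        obtain ⟨h', hh'⟩ : ∃ h', h' = h * ι e (SemiSp.pr B) := ⟨_, rfl⟩
        rw [← hh'] at hB
        have h6 : h' * h' = 1 := by
          apply hTi
          rw [map_mul, ← hB, hgg, map_one]
        have h7 : h' ≠ 1 := by
          intro h8
          have h9 : Psi 2 F g' = Psi 2 F 1 := by rw [hB, h8, map_one, map_one]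
          have h10 : IsSemi (1 : semiSim 2 F).1 (RingEquiv.refl F) 1 :=
            ⟨fun _ _ => rfl, fun _ _ => rfl, fun _ _ => by rw [one_mul]; rfl⟩
          obtain ⟨-, a, ha⟩ := uniq hg' h10 h9
          apply hsq
          refine ⟨a, Units.ext ?_⟩
          rw [Units.val_mk0, ha, one_mul, Units.val_pow_eq_pow_val]
        have h8 : orderOf h' = 2 := orderOf_eq_prime (by rw [pow_two, h6]) h7
        obtain ⟨r, hr, hr2, hrs⟩ := exists_r (s := q) (by have := hP.big; omega)
        have hrA := mem_A_of_dvd hP (s := q) (l := 1) (by rw [pow_one]) odd_one hr hr2 hrs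
        obtain ⟨y, hy, hcomm⟩ := hex r hr hr2 (by rw [hF]; exact hrs)
        have h9 : Commute h' (ι e (SemiSp.pr y)) := by
          apply hTi
          rw [map_mul, map_mul, ← hB, T_ι]
          exact hcomm
        have h2A : 2 ∉ A q := by
          intro h4
          have := hP.R_odd
          have : 2 ∣ R q := h4
          omega
        exact hs.not_commute hr Nat.prime_two hrA h2A (by rw [orderOf_injective _ (ι_injective e), hy])
          (by rw [h8]) (orderOf_pos _).ne' (orderOf_pos _).ne' h9.symm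
    · intro h hh
      rw [MonoidHom.mem_ker]
      obtain ⟨A, hA⟩ := hST h hh
      exact hρ h _ _ _ (isSemi_rho A) hA
  refine out_of_hom S ρ hker ?_
  intro h l hl hl2 ho
  obtain ⟨g, hg⟩ := hrange (T e h)
  obtain ⟨φ, k, hk, hsem⟩ := id g.2
  have hφ := hρ h g φ k hsem hg.symm
  rw [hφ] at ho
  obtain ⟨s, hs'⟩ := sq_norm φ (Units.mk0 k hk)
  have h1 := hsem.mul hsem
  have h2 : k * φ k = (s : F) ^ 2 := by rw [← hs', Units.val_mk0]
  rw [h2] at h1
  obtain ⟨h', hT, -⟩ := exists_frob e (h := h * h) (g := g * g) (by rw [map_mul, map_mul, hg]) h1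
  refine no_odd hP hs S hC hidx hF e hl hl2 ?_ hT
  have h3 : φ.trans φ = φ ^ 2 := by rw [pow_two]; rfl
  rw [h3, orderOf_pow, ho]
  have : Nat.gcd l 2 = 1 := by
    rw [Nat.gcd_comm]
    exact (Nat.coprime_primes Nat.prime_two hl).2 (Ne.symm hl2)
  rw [this, Nat.div_one]

section even
variable [CharP F 2]

open Cfsg.Agent.ClassicalGeometry.Sp4GraphAut Cfsg.Agent.ClassicalGeometry.Sp4Graph

omit [Fintype F] in
theorem gamma_sq [Finite F] : gamma F * gamma F = fr (frobeniusEquiv F 2) := by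
  apply MulEquiv.ext
  intro x
  obtain ⟨A, rfl⟩ := SemiSp.pr_surjective x
  rw [MulAut.mul_apply, fr_pr]
  change gamma F (gamma F (QuotientGroup.mk A)) = _
  rw [gamma_mk, gamma_mk]
  change SemiSp.pr _ = _
  congr 1
  apply Subtype.ext
  ext j k
  rw [graphHom_graphHom, mp_coe, Matrix.map_apply]
  rfl

omit [Fintype F] in
theorem frob_pow [Finite F] (k : ℕ) (x : F) : ((frobeniusEquiv F 2) ^ k : F ≃+* F) x = x ^ 2 ^ k := by
  induction k with
  | zero => simp
  | succ k ih =>
    rw [pow_succ', pow_succ, pow_mul, ← ih]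
    rfl

theorem exists_frob_pow (φ : F ≃+* F) : ∃ k : ℕ, φ = (frobeniusEquiv F 2) ^ k := by
  let _ : Algebra (ZMod 2) F := ZMod.algebra F 2
  have h0 : ∀ x : ZMod 2, φ (algebraMap (ZMod 2) F x) = algebraMap (ZMod 2) F x := by
    intro x
    have : (φ : F →+* F).comp (algebraMap (ZMod 2) F) = algebraMap (ZMod 2) F := Subsingleton.elim _ _
    exact RingHom.congr_fun this x
  obtain ⟨i, hi⟩ := FiniteField.exists_forall_apply_eq_pow (ZMod 2) 2 F
    (AlgEquiv.ofRingEquiv (f := φ) h0)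
  refine ⟨i, RingEquiv.ext fun x => ?_⟩
  rw [frob_pow]
  have := hi x
  rw [Nat.card_zmod] at this
  exact this

theorem exists_gamma_pow (φ : F ≃+* F) : ∃ k : ℕ, fr φ = gamma F ^ (2 * k) := by
  obtain ⟨k, rfl⟩ := exists_frob_pow φ
  exact ⟨k, by rw [map_pow, ← gamma_sq, pow_mul, pow_two]⟩

omit [Fintype F] in
theorem gamma_not_mem [Finite F] : gamma F ∉ (Psi 2 F).range := by
  intro h
  have h1 := ClassicalGeometry.AutPSpCount.pres_of_mem_range h
  obtain ⟨v', -, c', -, hc⟩ := h1 (e1 F) e1_ne_zero 1 one_ne_zero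
  exact gamma_transv_ne one_ne_zero v' c' hc

end even

/-- **The outer part**, socle `PSp₄(q)`, `q` even. -/
theorem out_even (hP : Par 2 q) {H : Type u} [Group H] [Finite H] (hs : Spl (A q) H) (S : Subgroup H)
    [S.Normal] (hC : centralizer (S : Set H) = ⊥) (hidx : ∀ r : ℕ, r.Prime → r ∈ A q → ¬ r ∣ S.index)
    (hF : Fintype.card F = q) (e : S ≃* PSp 2 F) :
    IsCyclic (H ⧸ S) ∧ ∃ j : ℕ, Nat.card (H ⧸ S) = 2 ^ j := by
  classical
  obtain ⟨n, hn⟩ := hP.pow
  have hch : CharP F 2 := charP_of_card hP.prime (by rw [hF, hn])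
  have hTi := T_injective e hC
  have hfin : Finite (F ≃+* F) := finite_ringEquiv
  have ht : ∃ t : F, t ≠ 0 ∧ t ≠ 1 := by
    by_contra hcon
    push Not at hcon
    have h3 : Fintype.card F ≤ 2 := by
      have : (Finset.univ : Finset F) ⊆ {0, 1} := by
        intro t _
        by_cases h0 : t = 0
        · simp only [h0, _root_.Finset.mem_insert, _root_.Finset.mem_singleton, _root_.zero_ne_one, _root_.or_false]
        · simp only [hcon t h0, _root_.Finset.mem_insert, _root_.one_ne_zero, _root_.Finset.mem_singleton, _root_.or_true]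
      exact (Finset.card_le_card this).trans (Finset.card_le_two)
    have := hP.big
    omega
  have hidx2 : (Psi 2 F).range.index = 2 := by
    refine ClassicalGeometry.SympAutTwo.index_two ht ?_
    intro α hα
    obtain ⟨g, hg⟩ := ClassicalGeometry.SympAutExists.exists_semi le_rfl α hα
    exact ⟨g, hg⟩
  have hsq : ∀ l : F, l ≠ 0 → ∃ s : Fˣ, l = (s : F) ^ 2 := by
    intro l hl
    obtain ⟨s, hs⟩ := FiniteField.isSquare_of_char_two (ringChar.eq F 2) l
    have hs0 : s ≠ 0 := by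
      rintro rfl
      rw [mul_zero] at hs
      exact hl hs
    exact ⟨Units.mk0 s hs0, by rw [hs, Units.val_mk0, pow_two]⟩
  let Inn : Subgroup (MulAut (PSp 2 F)) := (MulAut.conj : PSp 2 F →* MulAut (PSp 2 F)).range
  have hInn : Inn.Normal := by
    refine ⟨?_⟩
    rintro _ ⟨x, rfl⟩ α
    refine ⟨α x, ?_⟩
    apply MulEquiv.ext
    intro y
    rw [MulAut.mul_apply, MulAut.mul_apply, MulAut.conj_apply, MulAut.conj_apply, map_mul, map_mul, map_inv,
      MulAut.apply_inv_self]
  -- the outer automorphism group is cyclic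
  have hrep : ∀ α ∈ (Psi 2 F).range, ∃ (φ : F ≃+* F) (A : Sp), α = MulAut.conj (SemiSp.pr A) * fr φ := by
    rintro _ ⟨g, rfl⟩
    obtain ⟨φ, l, hl, hsem⟩ := id g.2
    obtain ⟨s, hs⟩ := hsq l hl
    rw [hs] at hsem
    obtain ⟨A, hA⟩ := exists_inner hsem
    exact ⟨φ, A, hA⟩
  have hZ : IsCyclic (MulAut (PSp 2 F) ⧸ Inn) := by
    have hr : ∀ α ∈ (Psi 2 F).range, ∃ k : ℕ, (QuotientGroup.mk α : MulAut (PSp 2 F) ⧸ Inn) =
        (QuotientGroup.mk (ClassicalGeometry.Sp4GraphAut.gamma F)) ^ k := by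
      intro α hα
      obtain ⟨φ, A, rfl⟩ := hrep α hα
      obtain ⟨k, hk⟩ := exists_gamma_pow φ
      refine ⟨2 * k, ?_⟩
      rw [QuotientGroup.mk_mul, hk, QuotientGroup.mk_pow,
        (QuotientGroup.eq_one_iff _).2 (show MulAut.conj (SemiSp.pr A) ∈ Inn from ⟨_, rfl⟩), one_mul]
    refine ⟨⟨QuotientGroup.mk (ClassicalGeometry.Sp4GraphAut.gamma F), ?_⟩⟩
    intro z
    obtain ⟨α, rfl⟩ := QuotientGroup.mk_surjective z
    by_cases hα : α ∈ (Psi 2 F).range
    · obtain ⟨k, hk⟩ := hr α hα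
      rw [hk]
      exact Subgroup.npow_mem_zpowers _ _
    · have h1 : (ClassicalGeometry.Sp4GraphAut.gamma F)⁻¹ * α ∈ (Psi 2 F).range := by
        rw [Subgroup.mul_mem_iff_of_index_two hidx2, inv_mem_iff]
        exact iff_of_false gamma_not_mem hα
      obtain ⟨k, hk⟩ := hr _ h1
      rw [QuotientGroup.mk_mul, QuotientGroup.mk_inv, inv_mul_eq_iff_eq_mul, ← pow_succ'] at hk
      rw [hk]
      exact Subgroup.npow_mem_zpowers _ _
  let ρ : H →* MulAut (PSp 2 F) ⧸ Inn := (QuotientGroup.mk' Inn).comp (T e)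
  have hker : ρ.ker = S := by
    apply le_antisymm
    · intro h hh
      rw [MonoidHom.mem_ker] at hh
      obtain ⟨y, hy⟩ := (QuotientGroup.eq_one_iff (T e h)).1 hh
      exact T_mem e hC hy.symm
    · intro h hh
      rw [MonoidHom.mem_ker]
      refine (QuotientGroup.eq_one_iff (T e h)).2 ⟨e ⟨h, hh⟩, ?_⟩
      rw [← T_ι e, ι_apply, MulEquiv.symm_apply_apply]
  refine out_of_hom S ρ hker ?_
  intro h l hl hl2 ho
  have hlodd : Odd l := hl.odd_of_ne_two hl2
  have hmem : T e h ∈ (Psi 2 F).range := by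
    have h1 : (T e h) ^ l ∈ (Psi 2 F).range := by
      have h2 : ρ h ^ l = 1 := by rw [← ho, pow_orderOf_eq_one]
      have h3 : (QuotientGroup.mk ((T e h) ^ l) : MulAut (PSp 2 F) ⧸ Inn) = 1 := by
        rw [QuotientGroup.mk_pow]; exact h2
      obtain ⟨y, hy⟩ := (QuotientGroup.eq_one_iff _).1 h3
      obtain ⟨A, hA⟩ := SemiSp.pr_surjective y
      exact ⟨_, by rw [Psi_rho A, hA, hy]⟩
    obtain ⟨k, hk⟩ := hlodd
    rw [hk, pow_succ, pow_mul] at h1
    have h2 : (T e h) ^ 2 ∈ (Psi 2 F).range := Subgroup.sq_mem_of_index_two hidx2 _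
    exact ((Psi 2 F).range.mul_mem_cancel_left (Subgroup.pow_mem _ h2 k)).1 h1
  obtain ⟨g, hg⟩ := hmem
  obtain ⟨φ, k, hk, hsem⟩ := id g.2
  obtain ⟨s, hs'⟩ := hsq k hk
  rw [hs'] at hsem
  obtain ⟨h', hT, hS, -⟩ := exists_frob e (h := h) (g := g) hg.symm hsem
  have hρ : ρ h' = ρ h := by
    have h1 : ρ (h'⁻¹ * h) = 1 := by rw [← MonoidHom.mem_ker, hker]; exact hS
    rw [map_mul, map_inv, inv_mul_eq_one] at h1
    exact h1
  refine no_odd hP hs S hC hidx hF e hl hl2 ?_ hT
  have := Fact.mk hl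
  apply orderOf_eq_prime
  · have h1 : (QuotientGroup.mk (fr (φ ^ l)) : MulAut (PSp 2 F) ⧸ Inn) = 1 := by
      rw [map_pow, QuotientGroup.mk_pow, ← hT]
      have h2 : (QuotientGroup.mk (T e h') : MulAut (PSp 2 F) ⧸ Inn) = ρ h := hρ
      rw [h2, ← ho, pow_orderOf_eq_one]
    obtain ⟨y, hy⟩ := (QuotientGroup.eq_one_iff _).1 h1
    exact eq_one_of_inner hy.symm
  · rintro rfl
    rw [map_one] at hT
    have h1 : ρ h = 1 := by
      rw [← hρ]
      change (QuotientGroup.mk (T e h') : MulAut (PSp 2 F) ⧸ Inn) = 1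
      rw [hT, QuotientGroup.mk_one]
    rw [h1, orderOf_one] at ho
    exact hl.one_lt.ne ho

/-- **The outer part**, socle `PSp₄(q)`. -/
theorem out (hP : Par p q) {H : Type u} [Group H] [Finite H] (hs : Spl (A q) H) (S : Subgroup H)
    [S.Normal] (hC : centralizer (S : Set H) = ⊥) (hidx : ∀ r : ℕ, r.Prime → r ∈ A q → ¬ r ∣ S.index)
    (hF : Fintype.card F = q) (e : S ≃* PSp 2 F) :
    IsCyclic (H ⧸ S) ∧ ∃ j : ℕ, Nat.card (H ⧸ S) = 2 ^ j := by
  by_cases hp2 : p = 2
  · subst hp2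
    exact out_even hP hs S hC hidx hF e
  · exact out_odd hP hp2 hs S hC hidx hF e

end Cfsg.Agent.H374.P4.OutSp
end

private theorem dce_ee0b40ac02e3 : _root_.True := by
  try have : _root_.True := by simp only [_root_.Cfsg.Agent.H374.P4.Emb.blk.eq_1]
  try have : _root_.True := by simp only [_root_.Cfsg.Agent.H374.P4.Emb.T.eq_1]
  try have : _root_.True := by simp only [_root_.Cfsg.Agent.H374.P4.SemiSp.pr.eq_1]
  try have : _root_.True := by simp only [_root_.Cfsg.Agent.H374.P4.Emb.homP.eq_1]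
  exact _root_.True.intro
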